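import Cfsg.Agent.H70.Balanced.Constrained
import Cfsg.Agent.Cores.GlaubermanZStar
import Cfsg.Agent.Cores.Residual
import Cfsg.Agent.H25.InvolutionTransfer
import Cfsg.Agent.H41.Basic
import Cfsg.Agent.H61.EarlyCharTwo
import Cfsg.Agent.PGroups.Basic
import Cfsg.Prelude.Def_CaseTheorems
import Cfsg.Prelude.Def_PLocal

/-!
Groups with solvable involution centralisers in which the centraliser of the involutions of the
centre of a Sylow 2-subgroup lies in its normaliser: the general facts.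
-/

set_option autoImplicit false
set_option linter.unusedSectionVars false
set_option linter.style.haveILetI false

namespace Cfsg.Agent.H57.ZC

open Subgroup
open Cfsg (centralizerPPrimeCore)
open scoped Pointwise

universe u

variable {G : Type u} [Group G] [Finite G]

local instance : Fact (Nat.Prime 2) := ⟨Nat.prime_two⟩

/-! ### `Ω₁` of abelian 2-groups -/

theorem mul_self_eq_one {a : G} (ha : orderOf a = 2) : a * a = 1 := by
  rw [← pow_two, ← ha, pow_orderOf_eq_one]

theorem ne_one_of_two {a : G} (ha : orderOf a = 2) : a ≠ 1 := fun h => by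
  rw [h, orderOf_one] at ha; omega

theorem sq_of_two {a : G} (ha : orderOf a = 2) : a ^ 2 = 1 := by
  rw [← ha, pow_orderOf_eq_one]

theorem two_of_sq {a : G} (ha : a ^ 2 = 1) (h1 : a ≠ 1) : orderOf a = 2 :=
  orderOf_eq_prime ha h1

theorem commute_of_inf_centralizer {P : Subgroup G} {x y : G}
    (hx : x ∈ P ⊓ centralizer (P : Set G)) (hy : y ∈ P) : y * x = x * y :=
  mem_centralizer_iff.1 hx.2 y hy

/-- Membership in `Ω₁(Z(P))`. -/
theorem mem_omega_center {P : Subgroup G} {x : G} :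
    x ∈ Cfsg.omegaOne 2 (P ⊓ centralizer (P : Set G)) ↔
      x ∈ P ⊓ centralizer (P : Set G) ∧ x ^ 2 = 1 := by
  refine ⟨fun h => ?_, fun h => subset_closure h⟩
  let K : Subgroup G :=
    { carrier := {x | x ∈ P ⊓ centralizer (P : Set G) ∧ x ^ 2 = 1}
      one_mem' := ⟨one_mem _, one_pow 2⟩
      mul_mem' := fun {a b} ha hb => ⟨mul_mem ha.1 hb.1, by
        rw [(show Commute a b from commute_of_inf_centralizer hb.1 ha.1.1).mul_pow, ha.2, hb.2,
          one_mul]⟩
      inv_mem' := fun {a} ha => ⟨inv_mem ha.1, by rw [inv_pow, ha.2, inv_one]⟩ }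
  exact (closure_le (K := K)).2 (fun y hy => hy) h

theorem elem_omega_center (P : Subgroup G) :
    Cfsg.IsElementaryAbelian 2 (Cfsg.omegaOne 2 (P ⊓ centralizer (P : Set G))) :=
  ⟨⟨⟨fun a b => Subtype.ext (commute_of_inf_centralizer (mem_omega_center.1 b.2).1
    (mem_omega_center.1 a.2).1.1)⟩⟩, fun _ ha => (mem_omega_center.1 ha).2⟩

theorem omega_center_le (P : Subgroup G) :
    Cfsg.omegaOne 2 (P ⊓ centralizer (P : Set G)) ≤ P :=
  fun _ hx => (mem_omega_center.1 hx).1.1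

theorem conj_sq {g x : G} (hx : x ^ 2 = 1) : (g * x * g⁻¹) ^ 2 = 1 := by
  rw [conj_pow, hx, mul_one, mul_inv_cancel]

theorem orderOf_conj {g x : G} : orderOf (g * x * g⁻¹) = orderOf x := H26.orderOf_conj_eq g x

/-- `Ω₁(Z(P))` is carried along by the normaliser of `P`. -/
theorem conj_mem_omega_center {P : Subgroup G} {g : G} (hg : g ∈ normalizer (P : Set G)) {x : G}
    (hx : x ∈ Cfsg.omegaOne 2 (P ⊓ centralizer (P : Set G))) :
    g * x * g⁻¹ ∈ Cfsg.omegaOne 2 (P ⊓ centralizer (P : Set G)) := by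
  obtain ⟨hx, h2⟩ := mem_omega_center.1 hx
  refine mem_omega_center.2 ⟨⟨(mem_normalizer_iff.1 hg x).1 hx.1, mem_centralizer_iff.2 fun y hy => ?_⟩,
    conj_sq h2⟩
  have h1 := mem_centralizer_iff.1 hx.2 (g⁻¹ * y * g) ((mem_normalizer_iff.1 hg _).2 (by
    simpa [mul_assoc] using hy))
  calc y * (g * x * g⁻¹) = g * (g⁻¹ * y * g * x) * g⁻¹ := by group
    _ = g * x * g⁻¹ * y := by rw [h1]; group

/-! ### The hypotheses -/

/-- The hypotheses of the reduction, for a fixed Sylow 2-subgroup. -/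
structure Hyp (S : Sylow 2 G) : Prop where
  even : Even (Nat.card G)
  sol : ∀ t : G, orderOf t = 2 → Group.IsSolvable ↥(centralizer ({t} : Set G))
  zc : centralizer (Cfsg.omegaOne 2 ((S : Subgroup G) ⊓ centralizer ((S : Subgroup G) : Set G)) : Set G)
      ≤ normalizer ((S : Subgroup G) : Set G)
  core : Cfsg.pPrimeCore 2 G = ⊥
  two : Cfsg.pCore 2 G = ⊥

/-- `Ω₁(Z(S))`. -/
abbrev zOne (S : Sylow 2 G) : Subgroup G :=
  Cfsg.omegaOne 2 ((S : Subgroup G) ⊓ centralizer ((S : Subgroup G) : Set G))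

/-- An elementary abelian subgroup of order at least 8 inside `P`. -/
def Eight (P D : Subgroup G) : Prop :=
  D ≤ P ∧ Cfsg.IsElementaryAbelian 2 D ∧ 8 ≤ Nat.card D

variable {S : Sylow 2 G}

theorem zOne_le (S : Sylow 2 G) : zOne S ≤ (S : Subgroup G) := omega_center_le _

theorem zOne_comm {z s : G} (hz : z ∈ zOne S) (hs : s ∈ (S : Subgroup G)) : s * z = z * s :=
  commute_of_inf_centralizer (mem_omega_center.1 hz).1 hs

theorem mem_zOne {z : G} (hz : z ∈ (S : Subgroup G)) (h2 : z ^ 2 = 1)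
    (hc : ∀ s ∈ (S : Subgroup G), s * z = z * s) : z ∈ zOne S :=
  mem_omega_center.2 ⟨⟨hz, mem_centralizer_iff.2 hc⟩, h2⟩

/-- A 2-element normalising a Sylow 2-subgroup lies in it. -/
theorem mem_sylow_of_normalizer (S : Sylow 2 G) {x : G} (hx : IsPGroup 2 (zpowers x))
    (hn : x ∈ normalizer ((S : Subgroup G) : Set G)) : x ∈ (S : Subgroup G) := by
  have h := hx.to_sup_of_normal_right' S.isPGroup' (zpowers_le.2 hn)
  rw [← S.is_maximal' h le_sup_right]
  exact mem_sup_left (mem_zpowers x)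

theorem isPGroup_zpowers_of_pow {x : G} {n : ℕ} (hx : x ^ 2 ^ n = 1) : IsPGroup 2 (zpowers x) := by
  rintro ⟨y, hy⟩
  obtain ⟨i, rfl⟩ := mem_zpowers_iff.1 hy
  refine ⟨n, Subtype.ext ?_⟩
  show (x ^ i) ^ 2 ^ n = 1
  rw [← zpow_natCast, ← zpow_mul, mul_comm, zpow_mul, zpow_natCast, hx, one_zpow]

theorem isPGroup_zpowers_of_mem {P : Subgroup G} (hP : IsPGroup 2 P) {x : G} (hx : x ∈ P) :
    IsPGroup 2 (zpowers x) := hP.to_le (zpowers_le.2 hx)

/-- A subgroup of 2-power order maximal in an intersection is the whole 2-part. -/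
theorem mem_of_commute_sylow (S : Sylow 2 G) {x : G} (hx : IsPGroup 2 (zpowers x))
    (hc : ∀ s ∈ (S : Subgroup G), s * x = x * s) : x ∈ (S : Subgroup G) :=
  mem_sylow_of_normalizer S hx (centralizer_le_normalizer _ (mem_centralizer_iff.2 hc))

namespace Hyp

/-- The 2-elements centralising `Ω₁(Z(S))` lie in `S`. -/
theorem mem_of_centralizer (c : Hyp S) {x : G} (hx : IsPGroup 2 (zpowers x))
    (hz : ∀ z ∈ zOne S, z * x = x * z) : x ∈ (S : Subgroup G) :=
  mem_sylow_of_normalizer S hx (c.zc (mem_centralizer_iff.2 hz))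

theorem sylow_ne_bot (c : Hyp S) : (S : Subgroup G) ≠ ⊥ := by
  intro h
  have h1 := S.card_eq_multiplicity
  rw [h, card_bot] at h1
  have h2 : 0 < (Nat.card G).factorization 2 :=
    Nat.prime_two.factorization_pos_of_dvd Nat.card_pos.ne' (even_iff_two_dvd.1 c.even)
  exact absurd h1.symm (Nat.one_lt_pow h2.ne' one_lt_two).ne'

theorem constrained (c : Hyp S) (t : G) (ht : orderOf t = 2) :
    Cfsg.IsPConstrained 2 ↥(centralizer ({t} : Set G)) := by
  haveI := c.sol t ht
  exact Cores.isPConstrained_of_isPSolvable Cores.isPSolvable_of_isSolvable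

theorem functor (c : Hyp S) :
    H70.Balanced.IsBalancedFunctor (fun a : G => centralizerPPrimeCore 2 a) :=
  H70.Balanced.core_functor_of_balanced (H70.Balanced.balanced_of_constrained c.constrained)

theorem normal_two_eq_bot (c : Hyp S) (N : Subgroup G) [N.Normal] (hN : IsPGroup 2 N) : N = ⊥ :=
  le_bot_iff.1 ((Cores.le_pCore hN).trans c.two.le)

theorem normal_odd_eq_bot (c : Hyp S) (N : Subgroup G) [N.Normal]
    (hN : (Nat.card N).Coprime 2) : N = ⊥ :=
  le_bot_iff.1 ((Cores.le_pPrimeCore hN).trans c.core.le)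

theorem normalizer_ne_top (c : Hyp S) {W : Subgroup G} (hW : ¬ 2 ∣ Nat.card W) (h1 : W ≠ ⊥) :
    normalizer (W : Set G) ≠ ⊤ := fun h => by
  haveI : W.Normal := normalizer_eq_top_iff.1 h
  exact h1 (c.normal_odd_eq_bot W ((Nat.prime_two.coprime_iff_not_dvd.2 hW).symm))

/-! ### `H = O²(G)` -/

theorem sylow_sup_residual (_c : Hyp S) : (S : Subgroup G) ⊔ Cfsg.pResidual 2 G = ⊤ :=
  Cores.sylow_sup_pResidual S

theorem residual_ne_bot (c : Hyp S) : Cfsg.pResidual 2 G ≠ ⊥ := fun h => by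
  have h2 : (⊤ : Subgroup G) = ⊥ :=
    c.normal_two_eq_bot ⊤ ((Cores.pResidual_eq_bot_iff.1 h).to_subgroup ⊤)
  exact c.sylow_ne_bot (le_bot_iff.1 (le_top.trans h2.le))

theorem exists_central_mem (c : Hyp S) :
    ∃ z ∈ zOne S, z ∈ Cfsg.pResidual 2 G ∧ orderOf z = 2 := by
  haveI : (Cfsg.pResidual 2 G).Normal := Cores.pResidual_normal
  have hne : (S : Subgroup G) ⊓ Cfsg.pResidual 2 G ≠ ⊥ := by
    intro h
    obtain ⟨T, hT⟩ := H41.exists_sylow_map_eq_inf S (Cfsg.pResidual 2 G)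
    rw [h, map_eq_bot_iff_of_injective _ (subtype_injective _)] at hT
    have hn := T.not_dvd_index
    rw [hT, index_bot] at hn
    exact c.residual_ne_bot (c.normal_odd_eq_bot _ (Nat.prime_two.coprime_iff_not_dvd.2 hn).symm)
  have hnb : (Cfsg.pResidual 2 G).subgroupOf (S : Subgroup G) ≠ ⊥ := fun h => hne (by
    rw [subgroupOf_eq_bot, disjoint_iff] at h
    rwa [inf_comm])
  obtain ⟨w, hw, hwc, hwo⟩ := PGroups.exists_mem_center_orderOf_eq (p := 2) S.isPGroup' _ hnb
  refine ⟨(w : G), mem_zOne w.2 (sq_of_two (by rw [orderOf_coe, hwo])) fun s hs => ?_, hw,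
    by rw [orderOf_coe, hwo]⟩
  exact congrArg Subtype.val (mem_center_iff.1 hwc ⟨s, hs⟩)

/-- Thompson transfer inside `O²(G)`. -/
theorem transfer (_c : Hyp S) (Q : Subgroup G)
    (hQ : ∀ a ∈ (S : Subgroup G), a ∈ Cfsg.pResidual 2 G → a ∉ Q →
      ∀ b ∈ (S : Subgroup G), b ∈ Cfsg.pResidual 2 G → b ∉ Q → a * b ∈ Q)
    {u : G} (huS : u ∈ (S : Subgroup G)) (huH : u ∈ Cfsg.pResidual 2 G) (hu : orderOf u = 2)
    (huQ : u ∉ Q) :
    ∃ h ∈ Cfsg.pResidual 2 G, h * u * h⁻¹ ∈ (S : Subgroup G) ∧ h * u * h⁻¹ ∈ Q := by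
  set H := Cfsg.pResidual 2 G with hH
  haveI : H.Normal := Cores.pResidual_normal
  obtain ⟨T, hT⟩ := H41.exists_sylow_map_eq_inf S H
  have hmem : ∀ x : ↥H, x ∈ (T : Subgroup ↥H) ↔ (x : G) ∈ (S : Subgroup G) := fun x =>
    ⟨fun h => (hT.le ⟨x, h, rfl⟩).1, fun h => by
      obtain ⟨y, hy, hyx⟩ := hT.ge (⟨h, x.2⟩ : (x : G) ∈ (S : Subgroup G) ⊓ H)
      rwa [← subtype_injective H hyx]⟩
  set Q' : Subgroup ↥H := (T : Subgroup ↥H) ⊓ Q.subgroupOf H with hQ'
  have hrel : Q'.relIndex (T : Subgroup ↥H) = 2 := by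
    refine relIndex_eq_two_iff.2 ⟨⟨u, huH⟩, (hmem _).2 huS, fun b hb => ?_⟩
    rw [xor_iff_iff_not]
    refine ⟨fun h1 h2 => ?_, fun h2 => ?_⟩
    · exact huQ ((Q'.mul_mem_cancel_left h2).1 h1).2
    · have hbQ : (b : G) ∉ Q := fun h => h2 ⟨hb, h⟩
      exact ⟨mul_mem hb ((hmem _).2 huS), hQ _ ((hmem b).1 hb) b.2 hbQ u huS huH huQ⟩
  rcases H25.thompson_transfer T Q' inf_le_left hrel ⟨u, huH⟩
    (by rw [← hu, ← orderOf_coe ]) ((hmem _).2 huS) (fun h => huQ h.2) with ⟨M, hMn, hMi, hMu⟩ | ⟨g, hg⟩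
  · haveI := hMn
    have h1 : Cfsg.pResidual 2 ↥H ≤ M :=
      Cores.pResidual_le_of_index_eq_pow M (k := 1) (by rw [hMi, pow_one])
    have h3 : Cfsg.pResidual 2 ↥H = ⊤ := Cores.pResidual_pResidual
    exact absurd (h1 (h3.ge (mem_top _))) hMu
  · exact ⟨g, g.2, (hmem _).1 hg.1, hg.2⟩

/-- An involution of `S ∩ O²(G)` is not isolated there. -/
theorem exists_conj_ne (c : Hyp S) {x : G} (hxS : x ∈ (S : Subgroup G))
    (hxH : x ∈ Cfsg.pResidual 2 G) (hx : orderOf x = 2) :
    ∃ h ∈ Cfsg.pResidual 2 G, h * x * h⁻¹ ∈ (S : Subgroup G) ∧ h * x * h⁻¹ ≠ x := by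
  set H := Cfsg.pResidual 2 G with hH
  haveI : H.Normal := Cores.pResidual_normal
  by_contra hcon
  push Not at hcon
  obtain ⟨T, hT⟩ := H41.exists_sylow_map_eq_inf S H
  have hxT : (⟨x, hxH⟩ : ↥H) ∈ (T : Subgroup ↥H) := by
    obtain ⟨y, hy, hyx⟩ := hT.ge (⟨hxS, hxH⟩ : x ∈ (S : Subgroup G) ⊓ H)
    rwa [← show y = (⟨x, hxH⟩ : ↥H) from Subtype.ext hyx]
  have hxo : orderOf (⟨x, hxH⟩ : ↥H) = 2 := by rw [← orderOf_coe]; exact hx
  have h1 := Cores.glaubermanZStar T hxo hxT fun g hg => Subtype.ext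
    (hcon g g.2 (hT.le ⟨_, hg, rfl⟩).1)
  have hO : Cfsg.oddCore ↥H = ⊥ := (map_eq_bot_iff_of_injective _ H.subtype_injective).1
    (le_bot_iff.1 ((Cores.map_pPrimeCore_le_of_normal (p := 2) H).trans c.core.le))
  have hcen : (⟨x, hxH⟩ : ↥H) ∈ center ↥H := mem_center_iff.2 fun g => by
    have h2 := h1 g
    rw [hO, mem_bot, mul_inv_eq_one, mul_inv_eq_iff_eq_mul] at h2
    exact h2.symm
  haveI : (zpowers (⟨x, hxH⟩ : ↥H)).Normal := PGroups.normal_of_le_center (zpowers_le.2 hcen)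
  have h3 : Cfsg.pCore 2 ↥H = ⊥ := (map_eq_bot_iff_of_injective _ H.subtype_injective).1
    (le_bot_iff.1 ((Cores.map_pCore_le_of_normal (p := 2) H).trans c.two.le))
  have h4 := (Cores.le_pCore (p := 2) (IsPGroup.of_card (n := 1)
    (by rw [Nat.card_zpowers, hxo, pow_one]) : IsPGroup 2 (zpowers (⟨x, hxH⟩ : ↥H)))).trans h3.le
  exact ne_one_of_two hxo (mem_bot.1 (h4 (mem_zpowers _)))

/-! ### Cores of centralisers -/

/-- An odd subgroup centralising `S` lies in the core of every involution centraliser of `S`. -/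
theorem le_core (c : Hyp S) {U : Subgroup G} (hU : ¬ 2 ∣ Nat.card U)
    (hUS : ∀ u ∈ U, ∀ s ∈ (S : Subgroup G), s * u = u * s) {t : G} (htS : t ∈ (S : Subgroup G))
    (ht : orderOf t = 2) : U ≤ centralizerPPrimeCore 2 t := by
  set C := centralizer ({t} : Set G) with hC
  have hUC : U ≤ C := fun u hu => mem_centralizer_singleton_iff.2 (hUS u hu t htS).symm
  have hZC : zOne S ≤ C := fun z hz => mem_centralizer_singleton_iff.2 (zOne_comm hz htS).symm
  set N := Cfsg.pPrimeCore 2 ↥C with hN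
  set φ := QuotientGroup.mk' N with hφ
  set P := Cfsg.pCore 2 (↥C ⧸ N) with hP
  set Z' := (zOne S).subgroupOf C with hZ'
  set U' := U.subgroupOf C with hU'
  have hZp : IsPGroup 2 Z' :=
    (H36.NilPPrime.elem_isPGroup (elem_omega_center (S : Subgroup G))).comap_subtype
  have hU'c : (Nat.card U').Coprime 2 := by
    rw [hU', Nat.card_congr (subgroupOfEquivOfLe hUC).toEquiv]
    exact (Nat.prime_two.coprime_iff_not_dvd.2 hU).symm
  have hB : (Nat.card ↥(U'.map φ)).Coprime 2 := hU'c.coprime_dvd_left (card_map_dvd _ φ)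
  have hAB : Z'.map φ ≤ centralizer (U'.map φ : Set (↥C ⧸ N)) := by
    rintro _ ⟨z, hz, rfl⟩ _ ⟨u, hu, rfl⟩
    rw [← map_mul, ← map_mul, show u * z = z * u from
      Subtype.ext (hUS u hu z (zOne_le S hz)).symm]
  haveI : P.Normal := inferInstance
  have key : P ⊓ centralizer (Z'.map φ : Set (↥C ⧸ N)) ≤ centralizer (U'.map φ : Set (↥C ⧸ N)) := by
    rintro y ⟨hyP, hyZ⟩
    rw [← Cores.map_centralizer_of_coprime N Cores.coprime_card_pPrimeCore hZp] at hyZ
    obtain ⟨d, hd, rfl⟩ := hyZ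
    obtain ⟨a, ha⟩ := Cores.pCore_isPGroup (p := 2) (G := ↥C ⧸ N) ⟨φ d, hyP⟩
    have ha' : φ d ^ 2 ^ a = 1 := congrArg Subtype.val ha
    obtain ⟨b, m, hm2, hm⟩ := Nat.exists_eq_pow_mul_and_not_dvd (orderOf_pos d).ne' 2 (by norm_num)
    obtain ⟨j, hj⟩ := exists_pow_eq_self_of_coprime (x := φ d) (n := m)
      (((Nat.prime_two.coprime_iff_not_dvd.2 hm2).pow_left a).symm.coprime_dvd_right
        (orderOf_dvd_of_pow_eq_one ha'))
    set d' := (d ^ m) ^ j with hd'
    have hd2 : (d' : G) ^ 2 ^ b = 1 := by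
      have : d' ^ 2 ^ b = 1 := by
        rw [hd', ← pow_mul, ← pow_mul, show m * (j * 2 ^ b) = orderOf d * j by rw [hm]; ring,
          pow_mul, pow_orderOf_eq_one, one_pow]
      exact congrArg Subtype.val this
    have hdS : (d' : G) ∈ (S : Subgroup G) := c.mem_of_centralizer (isPGroup_zpowers_of_pow hd2)
      fun z hz => congrArg Subtype.val
        (mem_centralizer_iff.1 (pow_mem (pow_mem hd m) j) (⟨z, hZC hz⟩ : ↥C) hz)
    rw [show φ d = φ d' by rw [hd', map_pow, map_pow, hj]]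
    refine mem_centralizer_iff.2 ?_
    rintro _ ⟨u, hu, rfl⟩
    rw [← map_mul, ← map_mul, show u * d' = d' * u from Subtype.ext (hUS u hu d' hdS).symm]
  have h1 : U'.map φ ≤ centralizer (P : Set (↥C ⧸ N)) :=
    Coprime.thompson_AxB (hZp.map φ) hB hAB P Cores.pCore_isPGroup
      (by simp [normalizer_eq_top]) (by simp [normalizer_eq_top]) key
  have h2 : U'.map φ ≤ P := h1.trans (Cores.isPConstrained_iff.1 (c.constrained t ht))
  have h3 : U'.map φ = ⊥ := le_bot_iff.1 fun y hy => by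
    rw [← Cores.disjoint_of_isPGroup_of_coprime Cores.pCore_isPGroup hB]
    exact ⟨h2 hy, hy⟩
  rw [Subgroup.map_eq_bot_iff, QuotientGroup.ker_mk'] at h3
  intro u hu
  exact ⟨⟨u, hUC hu⟩, h3 hu, rfl⟩

/-- If `Ω₁(Z(S)) = ⟨z⟩` the core of `C(z)` centralises `S`. -/
theorem core_central (c : Hyp S) {z : G} (hz : z ∈ zOne S)
    (hZ : ∀ w ∈ zOne S, w = 1 ∨ w = z) {u : G} (hu : u ∈ centralizerPPrimeCore 2 z) :
    ∀ s ∈ (S : Subgroup G), s * u = u * s := by
  intro s hs
  have huC : u ∈ centralizer ({z} : Set G) := H47.centralizerPPrimeCore_le z hu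
  have hzc : ∀ x ∈ centralizer ({z} : Set G), x ∈ normalizer ((S : Subgroup G) : Set G) :=
    fun x hx => c.zc (mem_centralizer_iff.2 fun w hw => by
      rcases hZ w hw with rfl | rfl
      · rw [one_mul, mul_one]
      · exact (mem_centralizer_singleton_iff.1 hx).symm)
  have hsC : s ∈ centralizer ({z} : Set G) := mem_centralizer_singleton_iff.2 (zOne_comm hz hs)
  have h1 : s * u * s⁻¹ * u⁻¹ ∈ centralizerPPrimeCore 2 z := mul_mem
    ((mem_normalizer_iff.1 ((H61.EarlyCharTwo.theta_le_normalizer z) hsC) u).1 hu) (inv_mem hu)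
  have h2 : s * u * s⁻¹ * u⁻¹ ∈ (S : Subgroup G) := by
    rw [show s * u * s⁻¹ * u⁻¹ = s * (u * s⁻¹ * u⁻¹) by group]
    exact mul_mem hs ((mem_normalizer_iff.1 (hzc u huC) _).1 (inv_mem hs))
  have h3 := Cores.disjoint_of_isPGroup_of_coprime S.isPGroup'
    ((Nat.prime_two.coprime_iff_not_dvd.2 (H47.not_dvd_centralizerPPrimeCore z)).symm)
  have h4 : s * u * s⁻¹ * u⁻¹ = 1 := mem_bot.1 (h3 ▸ ⟨h2, h1⟩)
  rwa [mul_inv_eq_one, mul_inv_eq_iff_eq_mul] at h4

theorem residual_sup_normal (c : Hyp S) : (Cfsg.pResidual 2 G ⊔ zOne S).Normal := by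
  haveI hHn : (Cfsg.pResidual 2 G).Normal := Cores.pResidual_normal
  rw [← normalizer_eq_top_iff, ← top_le_iff, ← c.sylow_sup_residual]
  refine sup_le (fun s hs => ?_) (le_trans le_sup_left Subgroup.le_normalizer)
  refine H39.mem_normalizer_iff_map_conj.2 ?_
  rw [Subgroup.map_sup, H39.mem_normalizer_iff_map_conj.1
      (show s ∈ normalizer (Cfsg.pResidual 2 G : Set G) from
        (normalizer_eq_top_iff.2 hHn).ge (mem_top s)),
    H39.mem_normalizer_iff_map_conj.1 (H39.mem_normalizer_of_conj_mem fun y hy =>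
      conj_mem_omega_center (Subgroup.le_normalizer hs) hy : s ∈ normalizer (zOne S : Set G))]

/-- The members of `O²(G) Ω₁(Z(S))` have cores of centralisers trivial if those in `S` have. -/
theorem charTwo (c : Hyp S)
    (h : ∀ t ∈ (S : Subgroup G), t ∈ Cfsg.pResidual 2 G ⊔ zOne S → orderOf t = 2 →
      centralizerPPrimeCore 2 t = ⊥) :
    Cfsg.IsCharacteristicTwoType ↥(Cfsg.pResidual 2 G ⊔ zOne S) := by
  set X := Cfsg.pResidual 2 G ⊔ zOne S with hX
  haveI hHn : (Cfsg.pResidual 2 G).Normal := Cores.pResidual_normal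
  haveI : X.Normal := c.residual_sup_normal
  have hD : ∀ t : G, t ∈ X → orderOf t = 2 → centralizerPPrimeCore 2 t = ⊥ := by
    intro t htX ht
    obtain ⟨g, hg⟩ := H39.exists_conj_le_sylow
      (IsPGroup.of_card (n := 1) (by rw [Nat.card_zpowers, ht, pow_one]) : IsPGroup 2 (zpowers t)) S
    have h1 := h _ (hg t (mem_zpowers t)) (Normal.conj_mem inferInstance t htX g)
      (by rw [orderOf_conj, ht])
    rw [Fusion.Signalizer.centralizerPPrimeCore_conj] at h1
    exact (map_eq_bot_iff_of_injective _ (MulAut.conj g).injective).1 h1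
  obtain ⟨z, hz, hzH, hzo⟩ := c.exists_central_mem
  refine ⟨?_, fun T hT hT1 => ?_⟩
  · rw [even_iff_two_dvd, ← hzo]
    exact orderOf_dvd_natCard X (le_sup_left (a := Cfsg.pResidual 2 G) hzH)
  refine Components.genFitting_eq_pCore_iff.1 (Components.genFitting_normalizer_of_centralizers
    (fun t ht => Components.genFitting_eq_pCore_iff.2 ?_) hT hT1)
  set C := centralizer ({(t : G)} : Set G) with hC
  set C' := centralizer ({t} : Set ↥X) with hC'
  have hto : orderOf (t : G) = 2 := by rw [orderOf_coe, ht]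
  have hmem : ∀ x : ↥X, x ∈ C' ↔ (x : G) ∈ C := fun x => by
    rw [hC, hC', mem_centralizer_singleton_iff, mem_centralizer_singleton_iff, Subtype.ext_iff]
    rfl
  let e : C' ≃* ↥(X.subgroupOf C) :=
    { toFun := fun x => ⟨⟨((x : ↥X) : G), (hmem x).1 x.2⟩, (x : ↥X).2⟩
      invFun := fun y => ⟨⟨((y : ↥C) : G), y.2⟩, (hmem _).2 (y : ↥C).2⟩
      left_inv := fun _ => rfl
      right_inv := fun _ => rfl
      map_mul' := fun _ _ => rfl }
  haveI : (X.subgroupOf C).Normal := inferInstance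
  haveI : Group.IsSolvable C := c.sol _ hto
  haveI : Group.IsSolvable C' :=
    Group.isSolvable_of_isSolvable_injective (f := (X.subgroupOf C).subtype.comp e.toMonoidHom)
      (fun a b hab => e.injective (subtype_injective _ hab))
  have h1 : Cfsg.pPrimeCore 2 ↥C = ⊥ := by
    have := hD t t.2 hto
    rwa [Cfsg.centralizerPPrimeCore, map_eq_bot_iff_of_injective _ (subtype_injective _)] at this
  have h2 : Cfsg.pPrimeCore 2 ↥(X.subgroupOf C) = ⊥ :=
    (map_eq_bot_iff_of_injective _ (subtype_injective _)).1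
      (le_bot_iff.1 ((Cores.map_pPrimeCore_le_of_normal (p := 2) _).trans h1.le))
  have h3 : Cfsg.pPrimeCore 2 ↥C' = ⊥ := by
    have := Cores.pPrimeCore_map_mulEquiv (p := 2) e
    rw [h2] at this
    exact (map_eq_bot_iff_of_injective _ e.injective).1 this
  exact (Cores.isPConstrained_iff_of_pPrimeCore_eq_bot h3).1
    (Cores.isPConstrained_of_isPSolvable Cores.isPSolvable_of_isSolvable)

/-- If `Ω₁(Z(S)) = ⟨z⟩`, the 2-elements commuting with `z` lie in `S`. -/
theorem mem_of_commute_center (c : Hyp S) {z : G} (hZ : ∀ w ∈ zOne S, w = 1 ∨ w = z) {x : G}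
    (hx : IsPGroup 2 (zpowers x)) (hxz : x * z = z * x) : x ∈ (S : Subgroup G) :=
  c.mem_of_centralizer hx fun w hw => by
    rcases hZ w hw with rfl | rfl
    · rw [one_mul, mul_one]
    · exact hxz.symm

/-- The centraliser in `S` of a conjugate `g z g⁻¹` lies in the conjugate Sylow subgroup. -/
theorem conj_mem_of_commute (c : Hyp S) {z : G} (hZ : ∀ w ∈ zOne S, w = 1 ∨ w = z) {g x : G}
    (hxS : x ∈ (S : Subgroup G)) (hxy : x * (g * z * g⁻¹) = g * z * g⁻¹ * x) :
    g⁻¹ * x * g ∈ (S : Subgroup G) := by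
  obtain ⟨n, hn⟩ := IsPGroup.iff_orderOf.1 S.isPGroup' ⟨x, hxS⟩
  rw [Subgroup.orderOf_mk] at hn
  refine c.mem_of_commute_center hZ (isPGroup_zpowers_of_pow (n := n) ?_) ?_
  · rw [show g⁻¹ * x * g = g⁻¹ * x * g⁻¹⁻¹ by group, conj_pow, ← hn, pow_orderOf_eq_one]
    group
  · calc g⁻¹ * x * g * z = g⁻¹ * (x * (g * z * g⁻¹)) * g := by group
      _ = z * (g⁻¹ * x * g) := by rw [hxy]; group

/-- A proper overgroup of `S` holding the centralisers of the involutions of `S ∩ O²(G)` and the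
elements of `O²(G)` normalising `S ∩ O²(G)` gives a strongly embedded subgroup of `O²(G)`. -/
theorem stronglyEmbedded (c : Hyp S) {M : Subgroup G} (hM : M ≠ ⊤) (hSM : (S : Subgroup G) ≤ M)
    (hC : ∀ x ∈ (S : Subgroup G), x ∈ Cfsg.pResidual 2 G → orderOf x = 2 →
      centralizer ({x} : Set G) ≤ M)
    (hN : ∀ g ∈ Cfsg.pResidual 2 G, g ∈ normalizer
      (((S : Subgroup G) ⊓ Cfsg.pResidual 2 G : Subgroup G) : Set G) → g ∈ M) :
    ∃ M' : Subgroup ↥(Cfsg.pResidual 2 G), Cfsg.IsStronglyEmbedded M' := by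
  set H := Cfsg.pResidual 2 G with hH
  haveI : H.Normal := Cores.pResidual_normal
  obtain ⟨T, hT⟩ := H41.exists_sylow_map_eq_inf S H
  obtain ⟨z, hz, hzH, hzo⟩ := c.exists_central_mem
  have hTS : ∀ x : ↥H, x ∈ (T : Subgroup ↥H) → (x : G) ∈ (S : Subgroup G) :=
    fun x hx => (hT.le ⟨x, hx, rfl⟩).1
  refine ⟨M.subgroupOf H, H70.Balanced.isStronglyEmbedded_of_centralizer_le ?_ T ?_ ?_ ?_⟩
  · intro h
    rw [subgroupOf_eq_top] at h
    exact hM (top_le_iff.1 (c.sylow_sup_residual.ge.trans (sup_le hSM h)))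
  · intro h
    rw [h, Subgroup.map_bot] at hT
    exact ne_one_of_two hzo (mem_bot.1 (hT.ge ⟨zOne_le S hz, hzH⟩))
  · intro g hg
    refine hN g g.2 (H39.mem_normalizer_of_conj_mem fun x hx => ?_)
    obtain ⟨y, hy, rfl⟩ := hT.ge hx
    exact hT.le ⟨g * y * g⁻¹, (mem_normalizer_iff.1 hg y).1 hy, rfl⟩
  · intro x hx hxo y hy
    exact hC _ (hTS x hx) x.2 (by rw [orderOf_coe, hxo])
      (mem_centralizer_singleton_iff.2 (congrArg Subtype.val (mem_centralizer_singleton_iff.1 hy)))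

end Hyp

/-! ### Small 2-group lemmas -/

theorem card_le_two_mul {Q K : Subgroup G} (hQK : Q ≤ K)
    (h : ∀ a ∈ K, a ∉ Q → ∀ b ∈ K, b ∉ Q → a * b ∈ Q) : Nat.card K ≤ 2 * Nat.card Q := by
  by_cases hle : K ≤ Q
  · have := card_le_of_le hle
    omega
  obtain ⟨a, haK, haQ⟩ := SetLike.not_le_iff_exists.1 hle
  have h2 : Q.relIndex K = 2 := by
    refine relIndex_eq_two_iff.2 ⟨a, haK, fun b hb => ?_⟩
    rw [xor_iff_iff_not]
    exact ⟨fun h1 h3 => haQ ((Q.mul_mem_cancel_left h3).1 h1), fun h3 => h b hb h3 a haK haQ⟩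
  have h1 := relIndex_mul_relIndex (⊥ : Subgroup G) Q K bot_le hQK
  rw [relIndex_bot_left, relIndex_bot_left, h2] at h1
  omega

/-- Elements of a four-group. -/
theorem four_cases {F : Subgroup G} (hF : H70.Balanced.Four F) {z e : G} (hz : z ∈ F) (he : e ∈ F)
    (hz1 : z ≠ 1) (he1 : e ≠ 1) (hez : e ≠ z) {x : G} (hx : x ∈ F) :
    x = 1 ∨ x = z ∨ x = e ∨ x = e * z := by
  classical
  by_contra hcon
  simp only [not_or] at hcon
  obtain ⟨h1, h2, h3, h4⟩ := hcon
  haveI := Fintype.ofFinite G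
  have hez1 : e * z ≠ 1 := fun h => hez (by
    rw [← mul_one e, show (1 : G) = z * z from (by rw [← pow_two, hF.1.2 z hz]), ← mul_assoc, h,
      one_mul])
  have hezz : e * z ≠ z := fun h => he1 (mul_eq_right.1 h)
  have heze : e * z ≠ e := fun h => hz1 (mul_eq_left.1 h)
  have hsub : ({1, z, e, e * z, x} : Finset G) ⊆ (Set.toFinset (F : Set G)) := by
    intro y hy
    simp only [Finset.mem_insert, Finset.mem_singleton] at hy
    rw [Set.mem_toFinset]
    rcases hy with rfl | rfl | rfl | rfl | rfl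
    exacts [one_mem _, hz, he, mul_mem he hz, hx]
  have hcard := Finset.card_le_card hsub
  rw [Set.toFinset_card, ← Nat.card_eq_fintype_card] at hcard
  rw [show Nat.card ↥(F : Set G) = 4 from hF.2, Finset.card_insert_of_notMem,
    Finset.card_insert_of_notMem, Finset.card_insert_of_notMem, Finset.card_insert_of_notMem,
    Finset.card_singleton] at hcard
  · omega
  all_goals simp [Ne.symm hz1, Ne.symm he1, Ne.symm hez, Ne.symm hez1, Ne.symm hezz, Ne.symm heze,
    Ne.symm h1, Ne.symm h2, Ne.symm h3, Ne.symm h4]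

theorem exists_four_gen {F : Subgroup G} (hF : H70.Balanced.Four F) (z : G) :
    ∃ e ∈ F, e ≠ 1 ∧ e ≠ z := by
  classical
  by_contra hcon
  push Not at hcon
  haveI := Fintype.ofFinite G
  have hsub : Set.toFinset (F : Set G) ⊆ ({1, z} : Finset G) := by
    intro y hy
    rw [Set.mem_toFinset] at hy
    simp only [Finset.mem_insert, Finset.mem_singleton]
    by_cases h1 : y = 1
    · exact Or.inl h1
    · exact Or.inr (hcon y hy h1)
  have hcard := (Finset.card_le_card hsub).trans Finset.card_le_two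
  rw [Set.toFinset_card, ← Nat.card_eq_fintype_card] at hcard
  rw [show Nat.card ↥(F : Set G) = 4 from hF.2] at hcard
  omega

theorem mem_centralizer_four {F : Subgroup G} (hF : H70.Balanced.Four F) {z e : G} (hz : z ∈ F)
    (he : e ∈ F) (hz1 : z ≠ 1) (he1 : e ≠ 1) (hez : e ≠ z) {s : G} (hsz : s * z = z * s)
    (hse : s * e = e * s) : s ∈ centralizer (F : Set G) := by
  refine mem_centralizer_iff.2 fun x hx => ?_
  rcases four_cases hF hz he hz1 he1 hez hx with rfl | rfl | rfl | rfl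
  · rw [one_mul, mul_one]
  · exact hsz.symm
  · exact hse.symm
  · exact ((show Commute s e from hse).mul_right (show Commute s z from hsz)).eq.symm

/-- An element moving a four-group with a fixed involution `z` moves the others by `z`. -/
theorem conj_four {F : Subgroup G} (hF : H70.Balanced.Four F) {z e : G} (hz : z ∈ F)
    (he : e ∈ F) (hz1 : z ≠ 1) (he1 : e ≠ 1) (hez : e ≠ z) {s : G}
    (hs : s ∈ normalizer (F : Set G)) (hsz : s * z = z * s)
    (hsF : s ∉ centralizer (F : Set G)) : s * e * s⁻¹ = e * z := by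
  rcases four_cases hF hz he hz1 he1 hez ((mem_normalizer_iff.1 hs e).1 he) with h | h | h | h
  · exact absurd (by simpa using h) he1
  · refine absurd (mul_left_cancel (a := s) ?_) hez
    rw [mul_inv_eq_iff_eq_mul] at h
    rw [h, hsz]
  · exact absurd (mem_centralizer_four hF hz he hz1 he1 hez hsz
      (by rwa [mul_inv_eq_iff_eq_mul] at h)) hsF
  · exact h

/-- The centraliser of a four-group with a fixed involution has index at most 2. -/
theorem mul_mem_centralizer_four {F : Subgroup G} (hF : H70.Balanced.Four F) {z : G} (hz : z ∈ F)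
    (hz1 : z ≠ 1) {a b : G} (ha : a ∈ normalizer (F : Set G)) (haz : a * z = z * a)
    (haF : a ∉ centralizer (F : Set G)) (hb : b ∈ normalizer (F : Set G)) (hbz : b * z = z * b)
    (hbF : b ∉ centralizer (F : Set G)) : a * b ∈ centralizer (F : Set G) := by
  obtain ⟨e, he, he1, hez⟩ := exists_four_gen hF z
  refine mem_centralizer_four hF hz he hz1 he1 hez
    ((show Commute a z from haz).mul_left (show Commute b z from hbz)).eq ?_
  have h : a * b * e * (a * b)⁻¹ = e := by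
    calc a * b * e * (a * b)⁻¹ = a * (b * e * b⁻¹) * a⁻¹ := by group
      _ = a * (e * z) * a⁻¹ := by rw [conj_four hF hz he hz1 he1 hez hb hbz hbF]
      _ = (a * e * a⁻¹) * (a * z * a⁻¹) := by group
      _ = e * z * z := by rw [conj_four hF hz he hz1 he1 hez ha haz haF, haz, mul_inv_cancel_right]
      _ = e := by rw [mul_assoc, ← pow_two, hF.1.2 z hz, mul_one]
  rwa [mul_inv_eq_iff_eq_mul] at h

theorem four_sup {a b : G} (ha : orderOf a = 2) (hb : orderOf b = 2) (hab : a * b = b * a)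
    (hne : b ≠ a) : H70.Balanced.Four (zpowers a ⊔ zpowers b) := by
  have hnot : b ∉ zpowers a := fun h => by
    rw [mem_zpowers_iff] at h
    obtain ⟨k, hk⟩ := h
    rcases Int.even_or_odd k with ⟨j, rfl⟩ | ⟨j, rfl⟩
    · rw [← two_mul, zpow_mul, zpow_ofNat, sq_of_two ha, one_zpow] at hk
      exact ne_one_of_two hb hk.symm
    · rw [zpow_add_one, zpow_mul, zpow_ofNat, sq_of_two ha, one_zpow, one_mul] at hk
      exact hne hk.symm
  have hs := Fusion.Signalizer.elementary_sup (H70.Balanced.elementary_zpowers (sq_of_two ha))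
    (H70.Balanced.elementary_zpowers (sq_of_two hb)) fun c hc d hd => by
      obtain ⟨i, rfl⟩ := mem_zpowers_iff.1 hc
      obtain ⟨j, rfl⟩ := mem_zpowers_iff.1 hd
      exact ((show Commute a b from hab).zpow_zpow i j).eq
  refine ⟨hs, ?_⟩
  have hlow := H70.Balanced.card_two_le_of_lt (H36.NilPPrime.elem_isPGroup hs)
    (lt_of_le_of_ne le_sup_left fun h => hnot (h.symm ▸ mem_sup_right (mem_zpowers b)))
  rw [Nat.card_zpowers, ha] at hlow
  refine le_antisymm ?_ (by omega)
  have hset : ((zpowers a ⊔ zpowers b : Subgroup G) : Set G) = (zpowers a : Set G) * (zpowers b : Set G) :=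
    coe_mul_of_left_le_normalizer_right _ _ ((zpowers_le.2 (centralizer_le_normalizer _
      (mem_centralizer_iff.2 fun d hd => by
        obtain ⟨j, rfl⟩ := mem_zpowers_iff.1 hd
        exact ((show Commute a b from hab).zpow_right j).eq.symm))))
  calc Nat.card ↥(zpowers a ⊔ zpowers b) = ((zpowers a : Set G) * (zpowers b : Set G)).ncard := by
        rw [← hset, ← Nat.card_coe_set_eq]; rfl
    _ ≤ (zpowers a : Set G).ncard * (zpowers b : Set G).ncard := Set.natCard_mul_le
    _ = 4 := by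
        rw [← Nat.card_coe_set_eq, ← Nat.card_coe_set_eq]
        show Nat.card (zpowers a) * Nat.card (zpowers b) = 4
        rw [Nat.card_zpowers, Nat.card_zpowers, ha, hb]

/-- An elementary group extended by an outside commuting involution. -/
theorem eight_sup {P A : Subgroup G} (hAP : A ≤ P) (hA : Cfsg.IsElementaryAbelian 2 A)
    (h4 : 4 ≤ Nat.card A) {t : G} (htP : t ∈ P) (ht : t ^ 2 = 1)
    (hc : ∀ a ∈ A, a * t = t * a) (htA : t ∉ A) : Eight P (A ⊔ zpowers t) := by
  have hs := Fusion.Signalizer.elementary_sup hA (H70.Balanced.elementary_zpowers ht)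
    fun a ha b hb => by
      obtain ⟨j, rfl⟩ := mem_zpowers_iff.1 hb
      exact ((show Commute a t from hc a ha).zpow_right j).eq
  refine ⟨sup_le hAP (zpowers_le.2 htP), hs, ?_⟩
  have h := H70.Balanced.card_two_le_of_lt (H36.NilPPrime.elem_isPGroup hs)
    (lt_of_le_of_ne le_sup_left fun h => htA (h.symm ▸ mem_sup_right (mem_zpowers t)))
  omega

theorem four_le_card {A : Subgroup G} (hA : IsPGroup 2 A) {a b : G} (ha : a ∈ A) (hb : b ∈ A)
    (ha1 : a ≠ 1) (hb1 : b ≠ 1) (hab : b ≠ a) : 4 ≤ Nat.card A := by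
  obtain ⟨n, hn⟩ := IsPGroup.iff_card.1 hA
  rcases n with _ | _ | n
  · rw [pow_zero, card_eq_one] at hn
    exact absurd (mem_bot.1 (hn ▸ ha)) ha1
  · rw [pow_one, Nat.card_eq_two_iff' (1 : A)] at hn
    obtain ⟨c, -, hc⟩ := hn
    exact absurd (congrArg Subtype.val ((hc ⟨b, hb⟩ (fun h => hb1 (congrArg Subtype.val h))).trans
      (hc ⟨a, ha⟩ (fun h => ha1 (congrArg Subtype.val h))).symm)) hab
  · rw [hn]
    calc 4 = 2 ^ 2 := by norm_num
      _ ≤ _ := Nat.pow_le_pow_right two_pos (by omega)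

/-- Squares lemma: if the squares of `C` lie in `S₁ ∌ z` and `z` is the only involution of
`K ≤ C`, then `K ≤ {1, z}`. -/
theorem eq_one_or_eq_of_squares {C S₁ : Subgroup G} {K : Subgroup G} (hK : IsPGroup 2 K) {z : G}
    (hKC : K ≤ C) (hsq : ∀ x ∈ C, x * x ∈ S₁) (hz : z ∉ S₁)
    (hinv : ∀ x ∈ K, orderOf x = 2 → x = z) {x : G} (hx : x ∈ K) : x = 1 ∨ x = z := by
  obtain ⟨n, hn⟩ := IsPGroup.iff_orderOf.1 hK ⟨x, hx⟩
  rw [Subgroup.orderOf_mk] at hn
  rcases n with _ | _ | n
  · exact Or.inl (orderOf_eq_one_iff.1 (by simpa using hn))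
  · exact Or.inr (hinv x hx (by simpa using hn))
  · exfalso
    have ho : orderOf (x ^ 2 ^ (n + 1)) = 2 := by
      rw [orderOf_pow_of_dvd (by positivity) (hn ▸ pow_dvd_pow 2 (by omega)), hn,
        Nat.pow_div (by omega) two_pos]
      simp
    refine hz ?_
    rw [← hinv _ (pow_mem hx _) ho, pow_succ, pow_mul, pow_two]
    exact hsq _ (pow_mem (hKC hx) _)

/-- In a 2-group `S` with a normal four `E ∋ z`, `z` central and `S₀ = C_S(E)`: an involution
`y ∈ S ∖ S₀` with `C_{S₀}(y) ≤ {1, z}` forces `S₀ = E`. -/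
theorem centralizer_le_four {S E : Subgroup G} (hS : IsPGroup 2 S) (hES : E ≤ S)
    (hSE : S ≤ normalizer (E : Set G)) (hE : H70.Balanced.Four E) {z : G} (hzE : z ∈ E)
    {y : G} (hyS : y ∈ S) (hy : orderOf y = 2)
    (hzy : z * y = y * z) (hyE : y ∉ centralizer (E : Set G))
    (h : ∀ v ∈ S, v ∈ centralizer (E : Set G) → v * y = y * v → v = 1 ∨ v = z) :
    S ⊓ centralizer (E : Set G) ≤ E := by
  have hE0 : E ≤ S ⊓ centralizer (E : Set G) := le_inf hES fun a ha => mem_centralizer_iff.2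
    fun b hb => H36.NilPPrime.elem_comm hE.1 hb ha
  by_contra hle
  have hlt : E < S ⊓ centralizer (E : Set G) := lt_of_le_not_ge hE0 hle
  haveI : (E.subgroupOf S).Normal := (normal_subgroupOf_iff_le_normalizer hES).2 hSE
  haveI : ((S ⊓ centralizer (E : Set G)).subgroupOf S).Normal := by
    refine ⟨fun v hv s => ⟨(s * v * s⁻¹ : ↥S).2, mem_centralizer_iff.2 fun b hb => ?_⟩⟩
    have h1 : (s : G)⁻¹ * b * s * (v : G) = (v : G) * ((s : G)⁻¹ * b * s) := mem_centralizer_iff.1 hv.2 ((s : G)⁻¹ * b * s)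
      (by simpa using (mem_normalizer_iff.1 (hSE (inv_mem s.2)) b).1 hb)
    show b * ((s : G) * v * (s : G)⁻¹) = (s : G) * v * (s : G)⁻¹ * b
    calc b * ((s : G) * v * (s : G)⁻¹) = s * ((s : G)⁻¹ * b * s * v) * (s : G)⁻¹ := by group
      _ = _ := by rw [h1]; group
  have hlt' : E.subgroupOf S < (S ⊓ centralizer (E : Set G)).subgroupOf S :=
    lt_of_le_of_ne (fun v hv => hE0 hv) fun h1 => hlt.ne (by
      have h2 := congrArg (Subgroup.map S.subtype) h1
      rwa [subgroupOf_map_subtype, subgroupOf_map_subtype, inf_eq_left.2 hES,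
        inf_eq_left.2 inf_le_left] at h2)
  obtain ⟨M, hMn, hEM, hMS, hcard⟩ := PGroups.exists_normal_card_mul (p := 2) hS _ _ hlt'
  haveI := hMn
  have hne : E.subgroupOf S < M := lt_of_le_of_ne hEM fun h1 => by
    rw [← h1] at hcard
    have := (Nat.card_pos : 0 < Nat.card ↥(E.subgroupOf S))
    omega
  obtain ⟨v, hvM, hvE⟩ := SetLike.exists_of_lt hne
  have hε : y * v * y⁻¹ * (v : G)⁻¹ ∈ E :=
    PGroups.commutatorElement_mem_of_card (p := 2) hS hEM hcard hvM ⟨y, hyS⟩
  have hv0 : (v : G) ∈ centralizer (E : Set G) := (hMS hvM).2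
  set ε := y * v * y⁻¹ * (v : G)⁻¹ with hεdef
  have hyy : y * y = 1 := mul_self_eq_one hy
  have hεy : ε * y = y * ε := by
    have h1 : y * v * y⁻¹ = ε * v := by rw [hεdef]; group
    have h2 : y * (ε * v) * y⁻¹ = v := by
      rw [← h1]
      calc y * (y * v * y⁻¹) * y⁻¹ = (y * y) * v * (y * y)⁻¹ := by group
        _ = _ := by rw [hyy, one_mul, inv_one, mul_one]
    have h3 : y * ε * y⁻¹ * (ε * v) = v := by
      calc y * ε * y⁻¹ * (ε * v) = y * ε * y⁻¹ * (y * v * y⁻¹) := by rw [h1]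
        _ = y * (ε * v) * y⁻¹ := by group
        _ = _ := h2
    have h4 : y * ε * y⁻¹ = ε⁻¹ := by
      rw [← mul_assoc] at h3
      exact eq_inv_of_mul_eq_one_left (mul_eq_right.1 h3)
    have h5 : ε⁻¹ = ε := inv_eq_of_mul_eq_one_right (by rw [← pow_two, hE.1.2 ε hε])
    rw [h5, mul_inv_eq_iff_eq_mul] at h4
    exact h4.symm
  rcases h ε (hES hε) (mem_centralizer_iff.2 fun b hb => H36.NilPPrime.elem_comm hE.1 hb hε) hεy
    with h1 | h1
  · rw [hεdef, mul_inv_eq_one, mul_inv_eq_iff_eq_mul] at h1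
    rcases h v v.2 hv0 h1.symm with h2 | h2
    · exact hvE (show (v : G) ∈ E by rw [h2]; exact one_mem _)
    · exact hvE (show (v : G) ∈ E by rw [h2]; exact hzE)
  · obtain ⟨e, heE, hey⟩ : ∃ e ∈ E, ¬ e * y = y * e := by
      by_contra hcon
      push Not at hcon
      exact hyE (mem_centralizer_iff.2 hcon)
    have he1 : e ≠ 1 := fun h2 => hey (by rw [h2, one_mul, mul_one])
    have hez : e ≠ z := fun h2 => hey (by rw [h2, hzy])
    have hz1 : z ≠ 1 := by
      rintro rfl
      rw [hεdef, mul_inv_eq_one, mul_inv_eq_iff_eq_mul] at h1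
      rcases h v v.2 hv0 h1.symm with h2 | h2 <;> exact hvE (show (v : G) ∈ E by rw [h2]; exact one_mem _)
    have hc : y * e * y⁻¹ = e * z := by
      have hmem := (mem_normalizer_iff.1 (hSE hyS) e).1 heE
      rcases four_cases hE hzE heE hz1 he1 hez hmem with h2 | h2 | h2 | h2
      · exact absurd (by simpa using h2) he1
      · exact absurd (by
          rw [mul_inv_eq_iff_eq_mul, hzy] at h2
          exact mul_left_cancel h2) hez
      · exact absurd (by rw [mul_inv_eq_iff_eq_mul] at h2; exact h2.symm) hey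
      · exact h2
    have hcz : ∀ b ∈ E, ∀ a ∈ E, a * b = b * a := fun b hb a ha => H36.NilPPrime.elem_comm hE.1 ha hb
    have hfix : v * e * y = y * (v * e) := by
      have h2 : y * v * y⁻¹ = z * v := by rw [← h1, hεdef]; group
      have h6 : y * (v * e) * y⁻¹ = v * e := by
        calc y * (v * e) * y⁻¹ = (y * v * y⁻¹) * (y * e * y⁻¹) := by group
          _ = z * v * (e * z) := by rw [h2, hc]
          _ = v * (z * z) * e := by
            rw [mem_centralizer_iff.1 hv0 z hzE, hcz z hzE e heE]; group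
          _ = _ := by rw [← pow_two, hE.1.2 z hzE, mul_one]
      rw [mul_inv_eq_iff_eq_mul] at h6
      exact h6.symm
    have hmem : (v : G) * e ∈ E := by
      rcases h (v * e) (mul_mem v.2 (hES heE)) (mul_mem hv0 (mem_centralizer_iff.2 fun b hb =>
        H36.NilPPrime.elem_comm hE.1 hb heE)) hfix with h2 | h2
      · rw [h2]; exact one_mem _
      · rw [h2]; exact hzE
    exact hvE ((E.mul_mem_cancel_right heE).1 hmem)

end Cfsg.Agent.H57.ZC
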