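import Cfsg.Agent.H57.ZC.Basic
import Cfsg.Agent.H26.RankThree

/-!
The elementary subgroups of order 8 of a Sylow 2-subgroup with a normal four-group: one closure
`W` of the cores, its normaliser, and the centralisers of their involutions.
-/

set_option autoImplicit false
set_option linter.unusedSectionVars false
set_option linter.style.haveILetI false

namespace Cfsg.Agent.H57.ZC

open Subgroup
open Cfsg (centralizerPPrimeCore)
open scoped Pointwise
open Cfsg.Agent.H70.Balanced (Four gen_eq_gen gen_map good_of_mem exists_four_le exists_four_mem le_gen)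
open Cfsg.Agent.Fusion.Signalizer (gen elementary_sup)

universe u

variable {G : Type u} [Group G] [Finite G]

local instance : Fact (Nat.Prime 2) := ⟨Nat.prime_two⟩

theorem eight_adjoin {P A : Subgroup G} (hA : Eight P A) {t : G} (htP : t ∈ P) (ht : t ^ 2 = 1)
    (hc : ∀ a ∈ A, a * t = t * a) : Eight P (A ⊔ zpowers t) := by
  refine ⟨sup_le hA.1 (zpowers_le.2 htP), elementary_sup hA.2.1
    (H70.Balanced.elementary_zpowers ht) fun a ha b hb => ?_, hA.2.2.trans (card_le_of_le le_sup_left)⟩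
  obtain ⟨j, rfl⟩ := mem_zpowers_iff.1 hb
  exact ((show Commute a t from hc a ha).zpow_right j).eq

theorem map_conj_le {A B : Subgroup G} {g : G} (h : ∀ a ∈ A, g * a * g⁻¹ ∈ B) :
    A.map (MulAut.conj g).toMonoidHom ≤ B := by
  rintro _ ⟨a, ha, rfl⟩
  exact h a ha

theorem eight_conj {P Q D : Subgroup G} (hD : Eight P D) {g : G}
    (h : ∀ a ∈ D, g * a * g⁻¹ ∈ Q) : Eight Q (D.map (MulAut.conj g).toMonoidHom) :=
  ⟨map_conj_le h, H36.NilPPrime.elem_map hD.2.1 g, by rw [H39.card_map_conj]; exact hD.2.2⟩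

theorem card_eq_four {A : Subgroup G} (hA : IsPGroup 2 A) (h4 : 4 ≤ Nat.card A)
    (h8 : ¬ 8 ≤ Nat.card A) : Nat.card A = 4 := by
  obtain ⟨n, hn⟩ := IsPGroup.iff_card.1 hA
  rcases n with _ | _ | _ | n
  · rw [pow_zero] at hn; omega
  · rw [pow_one] at hn; omega
  · exact hn
  · exfalso
    have : 8 ≤ 2 ^ (n + 1 + 1 + 1) := by
      calc 8 = 2 ^ 3 := by norm_num
        _ ≤ _ := Nat.pow_le_pow_right two_pos (by omega)
    rw [← hn] at this
    omega

/-- A four-group normalised by a 2-group with an elementary subgroup of order 8 lies in one. -/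
theorem eight_of_four {P F D : Subgroup G} (hP : IsPGroup 2 P) (hF : Four F) (hFP : F ≤ P)
    (hPF : P ≤ normalizer (F : Set G)) (hD : Eight P D) :
    ∃ D' V, Eight P D' ∧ F ≤ D' ∧ Four V ∧ V ≤ D ∧ V ≤ D' := by
  haveI : (F.subgroupOf P).Normal := (normal_subgroupOf_iff_le_normalizer hFP).2 hPF
  have hne : F.subgroupOf P ≠ ⊥ := fun h => by
    have h1 := congrArg (Subgroup.map P.subtype) h
    rw [subgroupOf_map_subtype, inf_eq_left.2 hFP, Subgroup.map_bot] at h1
    have := hF.2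
    rw [h1, card_bot] at this
    omega
  obtain ⟨f, hfF, hfc, hfo⟩ := PGroups.exists_mem_center_orderOf_eq (p := 2) hP _ hne
  have hf1 : (f : G) ≠ 1 := ne_one_of_two (by rw [orderOf_coe, hfo])
  have hfz : ∀ d ∈ P, d * f = f * d := fun d hd =>
    congrArg Subtype.val (mem_center_iff.1 hfc ⟨d, hd⟩)
  set B := D ⊓ centralizer (F : Set G) with hB
  have hB2 : Nat.card D ≤ 2 * Nat.card B := card_le_two_mul inf_le_left fun a ha haB b hb hbB =>
    ⟨mul_mem ha hb, mul_mem_centralizer_four hF hfF hf1 (hPF (hD.1 ha)) (hfz a (hD.1 ha))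
      (fun h => haB ⟨ha, h⟩) (hPF (hD.1 hb)) (hfz b (hD.1 hb)) (fun h => hbB ⟨hb, h⟩)⟩
  have hBe : Cfsg.IsElementaryAbelian 2 B := H40.elemAb_mono hD.2.1 inf_le_left
  have h8 := hD.2.2
  obtain ⟨V, hVB, hV⟩ := exists_four_le hBe (by omega)
  have hs := elementary_sup hF.1 hBe fun a ha b hb => mem_centralizer_iff.1 hb.2 a ha
  refine ⟨F ⊔ B, V, ⟨sup_le hFP (inf_le_left.trans hD.1), hs, ?_⟩, le_sup_left, hV,
    hVB.trans inf_le_left, hVB.trans le_sup_right⟩
  by_contra hlt
  have h4 : 4 ≤ Nat.card ↥(F ⊔ B) := hF.2.ge.trans (card_le_of_le le_sup_left)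
  have he : F = F ⊔ B := eq_of_le_of_card_ge le_sup_left
    (by rw [card_eq_four (H36.NilPPrime.elem_isPGroup hs) h4 hlt, hF.2])
  have hBF : B = F := eq_of_le_of_card_ge (he ▸ le_sup_right) (by rw [hF.2]; omega)
  have hDB : D ≤ B := fun d hd => ⟨hd, mem_centralizer_iff.2 fun a ha =>
    H36.NilPPrime.elem_comm hD.2.1 (inf_le_left (b := centralizer (F : Set G)) (hBF.ge ha)) hd⟩
  have h9 := card_le_of_le hDB
  rw [hBF, hF.2] at h9
  omega

/-- A Sylow 2-subgroup of `O_{2',2}` inside a given Sylow 2-subgroup, self-centralising there. -/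
theorem exists_frattini_self {C : Type u} [Group C] [Finite C] (hc : Cfsg.IsPConstrained 2 C)
    (T : Sylow 2 C) :
    ∃ Q : Subgroup C, Q ≤ (T : Subgroup C) ∧ (T : Subgroup C) ≤ normalizer (Q : Set C) ∧
      normalizer (Q : Set C) ⊔ Cfsg.pPrimeCore 2 C = ⊤ ∧
      ∀ x ∈ (T : Subgroup C), x ∈ centralizer (Q : Set C) → x ∈ Q := by
  set N := Cfsg.pPrimeCore 2 C with hN
  set π := QuotientGroup.mk' N with hπ
  set P := Cfsg.pPrimePCore 2 C with hP
  obtain ⟨Q₀⟩ : Nonempty (Sylow 2 P) := inferInstance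
  obtain ⟨c, hc'⟩ := H39.exists_conj_le_sylow (Q₀.isPGroup'.map P.subtype) T
  set Q₁ : Sylow 2 P := (MulAut.conjNormal c : MulAut P) • Q₀ with hQ₁
  set Q := (Q₁ : Subgroup P).map P.subtype with hQ
  have hQT : Q ≤ (T : Subgroup C) := by
    rintro _ ⟨x, hx, rfl⟩
    have hx' : x ∈ (((MulAut.conjNormal c : MulAut P) • (Q₀ : Subgroup P) : Subgroup P) : Set P) := hx
    obtain ⟨y, hy, rfl⟩ := Set.mem_smul_set.1 hx'
    simpa [MulAut.conjNormal_apply] using hc' _ (mem_map_of_mem P.subtype hy)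
  have hmap : Q.map π = Cfsg.pCore 2 (C ⧸ N) := Cores.map_sylow_pPrimePCore Q₁
  have hPQ : P = Q ⊔ N := by
    conv_rhs => rw [← QuotientGroup.ker_mk' N, ← comap_map_eq, hmap]
    rfl
  have key : ∀ x ∈ (T : Subgroup C), x ∈ P → x ∈ Q := by
    intro x hxT hxP
    rw [hPQ] at hxP
    obtain ⟨q, hq, n, hn, rfl⟩ := mem_sup_of_normal_right.1 hxP
    have hn1 : n ∈ (T : Subgroup C) ⊓ N := ⟨((T : Subgroup C).mul_mem_cancel_left (hQT hq)).1 hxT, hn⟩
    rw [Cores.disjoint_of_isPGroup_of_coprime T.isPGroup' Cores.coprime_card_pPrimeCore, mem_bot] at hn1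
    rwa [hn1, mul_one]
  refine ⟨Q, hQT, fun t ht => H39.mem_normalizer_of_conj_mem fun q hq => key _
    (mul_mem (mul_mem ht (hQT hq)) (inv_mem ht))
    (Normal.conj_mem inferInstance q (map_subtype_le _ hq) t), top_le_iff.1 ?_, fun x hxT hx => ?_⟩
  · rw [← Sylow.normalizer_sup_eq_top Q₁]
    refine sup_le le_sup_left (hPQ.le.trans (sup_le (Subgroup.le_normalizer.trans le_sup_left) le_sup_right))
  · refine key x hxT ?_
    show π x ∈ Cfsg.pCore 2 (C ⧸ N)
    refine Cores.isPConstrained_iff.1 hc ?_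
    rw [← hmap]
    refine mem_centralizer_iff.2 ?_
    rintro _ ⟨q, hq, rfl⟩
    rw [← map_mul, ← map_mul, mem_centralizer_iff.1 hx q hq]

/-- A Sylow 2-subgroup with an elementary subgroup of order 8, a normal four-group and a central
involution in it. -/
structure Setting (S : Sylow 2 G) (E : Subgroup G) (z : G) : Prop extends Hyp S where
  four : Four E
  le : E ≤ (S : Subgroup G)
  normal : (S : Subgroup G) ≤ normalizer (E : Set G)
  mem : z ∈ E
  memZ : z ∈ zOne S
  ord : orderOf z = 2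
  eight : ∃ A, Eight (S : Subgroup G) A

/-- The closure of the cores on a four-group. -/
abbrev closureW (E : Subgroup G) : Subgroup G :=
  gen (fun a : G => centralizerPPrimeCore 2 a) E

variable {S : Sylow 2 G} {E : Subgroup G} {z : G}

theorem exists_normal_four_central {P A : Subgroup G} (hP : IsPGroup 2 P) (hA : Eight P A) :
    ∃ E z, Four E ∧ E ≤ P ∧ P ≤ normalizer (E : Set G) ∧ z ∈ E ∧ orderOf z = 2 ∧
      ∀ s ∈ P, s * z = z * s := by
  obtain ⟨K, hK⟩ := Sylow.exists_subgroup_card_pow_prime_of_le_card (n := 3) (p := 2) Nat.prime_two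
    (H36.NilPPrime.elem_isPGroup hA.2.1) (by simpa using hA.2.2)
  obtain ⟨U, hUn, hU4, hU2⟩ := H26.exists_normal_four hP
    ((K.map A.subtype).subgroupOf P)
    (by rw [Nat.card_congr (subgroupOfEquivOfLe ((map_subtype_le K).trans hA.1)).toEquiv,
      card_map_of_injective A.subtype_injective, hK]; norm_num)
    (fun e he => Subtype.ext (hA.2.1.2 _ (map_subtype_le K he)))
  haveI := hUn
  have hcomm : ∀ a ∈ U, ∀ b ∈ U, a * b = b * a := fun a ha b hb => by
    have hi : ∀ v ∈ U, v⁻¹ = v := fun v hv =>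
      inv_eq_of_mul_eq_one_right (by rw [← pow_two]; exact hU2 v hv)
    have h1 := hi _ (mul_mem ha hb)
    rwa [mul_inv_rev, hi _ ha, hi _ hb, eq_comm] at h1
  obtain ⟨w, hwU, hwc, hwo⟩ := PGroups.exists_mem_center_orderOf_eq (p := 2) hP U
    (fun h => by rw [h, card_bot] at hU4; omega)
  refine ⟨U.map P.subtype, (w : G), ⟨⟨⟨⟨?_⟩⟩, ?_⟩, ?_⟩, map_subtype_le _,
    Components.le_normalizer_map_subtype _, mem_map_of_mem _ hwU, by rw [orderOf_coe, hwo],
    fun s hs => congrArg Subtype.val (mem_center_iff.1 hwc ⟨s, hs⟩)⟩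
  · rintro ⟨_, a, ha, rfl⟩ ⟨_, b, hb, rfl⟩
    exact Subtype.ext (congrArg (fun w : ↥P => (w : G)) (hcomm a ha b hb))
  · rintro _ ⟨a, ha, rfl⟩
    rw [← map_pow, hU2 a ha, map_one]
  · rw [card_map_of_injective P.subtype_injective, hU4]

theorem exists_setting (c : Hyp S) {A : Subgroup G} (hA : Eight (S : Subgroup G) A) :
    ∃ E z, Setting S E z := by
  obtain ⟨E, z, hE, hES, hSE, hzE, hzo, hzc⟩ := exists_normal_four_central S.isPGroup' hA
  exact ⟨E, z, c, hE, hES, hSE, hzE, mem_zOne (hES hzE) (sq_of_two hzo) hzc, hzo, A, hA⟩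

namespace Setting

theorem exists_eight_ge (c : Setting S E z) :
    ∃ D, Eight (S : Subgroup G) D ∧ E ≤ D := by
  obtain ⟨A, hA⟩ := c.eight
  obtain ⟨D', -, hD', hle, -⟩ := eight_of_four S.isPGroup' c.four c.le c.normal hA
  exact ⟨D', hD', hle⟩

theorem gen_eq (c : Setting S E z) {V D : Subgroup G} (hD : Eight (S : Subgroup G) D) (hV : Four V)
    (hVD : V ≤ D) : gen (fun a : G => centralizerPPrimeCore 2 a) V = closureW E := by
  obtain ⟨D', V', hD', hED, hV', hV'D, hV'D'⟩ := eight_of_four S.isPGroup' c.four c.le c.normal hD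
  rw [(gen_eq_gen c.functor hD.2.1 hD.2.2 hVD hV.2.ge).1,
    ← (gen_eq_gen c.functor hD.2.1 hD.2.2 hV'D hV'.2.ge).1,
    (gen_eq_gen c.functor hD'.2.1 hD'.2.2 hV'D' hV'.2.ge).1,
    ← (gen_eq_gen c.functor hD'.2.1 hD'.2.2 hED c.four.2.ge).1]

theorem odd (c : Setting S E z) : ¬ 2 ∣ Nat.card (closureW E) := by
  obtain ⟨D, hD, hED⟩ := c.exists_eight_ge
  exact (gen_eq_gen c.functor hD.2.1 hD.2.2 hED c.four.2.ge).2

theorem mem_of_map (c : Setting S E z) {V D D₂ : Subgroup G} (hV : Four V)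
    (hD : Eight (S : Subgroup G) D) (hVD : V ≤ D) (hD₂ : Eight (S : Subgroup G) D₂) {g : G}
    (hg : V.map (MulAut.conj g).toMonoidHom ≤ D₂) : g ∈ normalizer (closureW E : Set G) := by
  rw [H39.mem_normalizer_iff_map_conj]
  conv_lhs => rw [← c.gen_eq hD hV hVD, ← gen_map c.functor
    (fun a ha h1 => good_of_mem hD.2.1 hD.2.2 (hVD ha) h1)]
  exact c.gen_eq hD₂ (H70.Balanced.four_map hV g) hg

theorem sylow_le (c : Setting S E z) : (S : Subgroup G) ≤ normalizer (closureW E : Set G) := by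
  intro s hs
  obtain ⟨A, hA⟩ := c.eight
  obtain ⟨V, hVA, hV⟩ := exists_four_le hA.2.1 (by have := hA.2.2; omega)
  exact c.mem_of_map hV hA hVA
    (eight_conj hA (g := s) fun a ha => mul_mem (mul_mem hs (hA.1 ha)) (inv_mem hs))
    (map_mono hVA)

/-- A 2-subgroup of `N(W)` with an elementary subgroup of order 8: its normaliser is in `N(W)`. -/
theorem normalizer_le (c : Setting S E z) {P D : Subgroup G} (hP : IsPGroup 2 P)
    (hPM : P ≤ normalizer (closureW E : Set G)) (hD : Eight P D) :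
    normalizer (P : Set G) ≤ normalizer (closureW E : Set G) := by
  intro n hn
  obtain ⟨m, hm, hmS⟩ := H39.exists_conj_mem_le_sylow hP hPM S c.sylow_le
  obtain ⟨V, hVD, hV⟩ := exists_four_le hD.2.1 (by have := hD.2.2; omega)
  have h1 := eight_conj (Q := (S : Subgroup G)) hD (g := m) fun a ha => hmS a (hD.1 ha)
  have h2 := eight_conj (Q := (S : Subgroup G)) hD (g := m * n) fun a ha => by
    have := hmS _ ((mem_normalizer_iff.1 hn a).1 (hD.1 ha))
    simpa [mul_assoc] using this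
  have h3 := c.mem_of_map (H70.Balanced.four_map hV m) h1 (map_mono hVD) h2 (g := m * n * m⁻¹) (by
    rw [H39.map_conj_map_conj, inv_mul_cancel_right]
    exact map_mono hVD)
  simpa [mul_assoc] using mul_mem (mul_mem (inv_mem hm) h3) hm

/-- A 2-group with an elementary subgroup of order 8 inside `N(W)` lies in `N(W)`. -/
theorem two_group_le (c : Setting S E z) {T D : Subgroup G} (hT : IsPGroup 2 T)
    (hD : Eight T D) (hDM : D ≤ normalizer (closureW E : Set G)) :
    T ≤ normalizer (closureW E : Set G) := by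
  set P := T ⊓ normalizer (closureW E : Set G) with hP
  by_contra hle
  obtain ⟨x, hxT, hxP, hxn⟩ := H39.exists_mem_normalizer_not_mem hT
    (lt_of_le_not_ge (inf_le_left : P ≤ T) fun h => hle (h.trans inf_le_right))
  exact hxP ⟨hxT, c.normalizer_le (hT.to_le inf_le_left) inf_le_right
    ⟨le_inf hD.1 hDM, hD.2⟩ hxn⟩

theorem sylow_normalizer_le (c : Setting S E z) :
    normalizer ((S : Subgroup G) : Set G) ≤ normalizer (closureW E : Set G) := by
  obtain ⟨A, hA⟩ := c.eight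
  exact c.normalizer_le S.isPGroup' c.sylow_le hA

theorem theta_le (c : Setting S E z) {D : Subgroup G} (hD : Eight (S : Subgroup G) D) {x : G}
    (hxD : x ∈ D) (hx : orderOf x = 2) : centralizerPPrimeCore 2 x ≤ closureW E := by
  obtain ⟨V, hVD, hxV, hV⟩ := exists_four_mem (H36.NilPPrime.elem_isPGroup hD.2.1) hD.2.1
    (by have := hD.2.2; omega) le_rfl hx hxD
  rw [← c.gen_eq hD hV hVD]
  exact le_gen (θ := fun a : G => centralizerPPrimeCore 2 a) hxV (ne_one_of_two hx)

/-- The centraliser of an involution of `S` lying in an elementary subgroup of order 8. -/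
theorem centralizer_le (c : Setting S E z) {D : Subgroup G} (hD : Eight (S : Subgroup G) D) {x : G}
    (hxD : x ∈ D) (hx : orderOf x = 2) :
    centralizer ({x} : Set G) ≤ normalizer (closureW E : Set G) := by
  set M := normalizer (closureW E : Set G) with hM
  set C := centralizer ({x} : Set G) with hC
  have hDC : D ≤ C := fun d hd =>
    mem_centralizer_singleton_iff.2 (H36.NilPPrime.elem_comm hD.2.1 hd hxD)
  obtain ⟨T, hT⟩ := ((H36.NilPPrime.elem_isPGroup hD.2.1).comap_subtype (K := C)).exists_le_sylow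
  set T' := (T : Subgroup ↥C).map C.subtype with hT'
  have hT'p : IsPGroup 2 T' := T.isPGroup'.map _
  have hDT : Eight T' D := ⟨fun d hd => ⟨⟨d, hDC hd⟩, hT hd, rfl⟩, hD.2⟩
  have hT'M : T' ≤ M := c.two_group_le hT'p hDT (hD.1.trans c.sylow_le)
  obtain ⟨Q, hQT, hTQ, htop, hself⟩ := exists_frattini_self (c.constrained x hx) T
  set Q' := Q.map C.subtype with hQ'
  have hQ'T : Q' ≤ T' := map_mono hQT
  suffices hmain : ∀ g ∈ C, g ∈ normalizer (Q' : Set G) → g ∈ M by
    intro g hg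
    have h3 : g ∈ (normalizer (Q : Set ↥C) ⊔ Cfsg.pPrimeCore 2 ↥C).map C.subtype := by
      rw [htop]; exact ⟨⟨g, hg⟩, mem_top _, rfl⟩
    rw [Subgroup.map_sup] at h3
    refine sup_le ?_ ((c.theta_le hD hxD hx).trans Subgroup.le_normalizer) h3
    rintro _ ⟨n, hn, rfl⟩
    exact hmain _ n.2 (le_normalizer_map C.subtype ⟨n, hn, rfl⟩)
  -- `Ω₁(Z(Q))`
  set F := Cfsg.omegaOne 2 (Q' ⊓ centralizer (Q' : Set G)) with hF
  have hFe : Cfsg.IsElementaryAbelian 2 F := elem_omega_center Q'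
  have hFQ : F ≤ Q' := omega_center_le Q'
  have hxQ : x ∈ Q' := by
    refine ⟨⟨x, hDC hxD⟩, hself _ (hT hxD) (mem_centralizer_iff.2 fun q _ => ?_), rfl⟩
    exact Subtype.ext (mem_centralizer_singleton_iff.1 q.2)
  have hxF : x ∈ F := mem_omega_center.2 ⟨⟨hxQ, mem_centralizer_iff.2 fun q hq =>
    mem_centralizer_singleton_iff.1 (map_subtype_le Q hq)⟩, sq_of_two hx⟩
  have hT'F : T' ≤ normalizer (F : Set G) := fun t ht => H39.mem_normalizer_of_conj_mem fun y hy => by
    obtain ⟨t₀, ht₀, rfl⟩ := ht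
    exact conj_mem_omega_center (le_normalizer_map C.subtype ⟨t₀, hTQ ht₀, rfl⟩) hy
  intro g hgC hgQ
  have hgF : g ∈ normalizer (F : Set G) :=
    H39.mem_normalizer_of_conj_mem fun y hy => conj_mem_omega_center hgQ hy
  by_cases h8 : 8 ≤ Nat.card F
  · exact c.normalizer_le (H36.NilPPrime.elem_isPGroup hFe) ((hFQ.trans hQ'T).trans hT'M)
      ⟨le_rfl, hFe, h8⟩ hgF
  by_cases h4 : 4 ≤ Nat.card F
  · have hF4 : Four F := ⟨hFe, card_eq_four (H36.NilPPrime.elem_isPGroup hFe) h4 h8⟩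
    obtain ⟨D', -, hD', hFD', -⟩ := eight_of_four hT'p hF4 (hFQ.trans hQ'T) hT'F hDT
    obtain ⟨m, hm, hmS⟩ := H39.exists_conj_mem_le_sylow hT'p hT'M S c.sylow_le
    have h1 := eight_conj (Q := (S : Subgroup G)) hD' (g := m) fun a ha => hmS a (hD'.1 ha)
    have h3 := c.mem_of_map (H70.Balanced.four_map hF4 m) h1 (map_mono hFD') h1
      (g := m * g * m⁻¹) (by
        rw [H39.map_conj_map_conj, inv_mul_cancel_right, ← H39.map_conj_map_conj,
          H39.mem_normalizer_iff_map_conj.1 hgF]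
        exact map_mono hFD')
    simpa [mul_assoc] using mul_mem (mul_mem (inv_mem hm) h3) hm
  -- `x` is central in a Sylow 2-subgroup
  have hF2 : ∀ y ∈ F, y = 1 ∨ y = x := fun y hy => by
    by_contra hcon
    simp only [not_or] at hcon
    exact h4 (four_le_card (H36.NilPPrime.elem_isPGroup hFe) hxF hy (ne_one_of_two hx) hcon.1 hcon.2)
  obtain ⟨S', hS'⟩ := hT'p.exists_le_sylow
  have hS'M : (S' : Subgroup G) ≤ M :=
    c.two_group_le S'.isPGroup' ⟨hDT.1.trans hS', hD.2⟩ (hD.1.trans c.sylow_le)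
  obtain ⟨m, hm, hmS⟩ := H39.exists_conj_mem_le_sylow S'.isPGroup' hS'M S c.sylow_le
  have hmap : (S' : Subgroup G).map (MulAut.conj m).toMonoidHom = (S : Subgroup G) :=
    eq_of_le_of_card_ge (map_conj_le hmS)
      (by rw [H39.card_map_conj, S.card_eq_multiplicity, S'.card_eq_multiplicity])
  have hZ : ∀ w ∈ zOne S, w = 1 ∨ w = m * x * m⁻¹ := by
    intro w hw
    obtain ⟨w', hw', rfl⟩ := hmap.ge (zOne_le S hw)
    have hcomm : ∀ s ∈ (S' : Subgroup G), s * w' = w' * s := fun s hs => (MulAut.conj m).injective (by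
      rw [map_mul, map_mul]
      exact zOne_comm hw (hmap.le (mem_map_of_mem _ hs)))
    have hxT : x ∈ T' := hQ'T hxQ
    have hw'C : w' ∈ C := mem_centralizer_singleton_iff.2 (hcomm x (hS' hxT)).symm
    have hw'T : (⟨w', hw'C⟩ : ↥C) ∈ (T : Subgroup ↥C) := by
      rw [← T.is_maximal' (S'.isPGroup'.comap_subtype (K := C))
        (fun y hy => hS' (mem_map_of_mem C.subtype hy))]
      exact hw'
    have hw'Q := hself _ hw'T (mem_centralizer_iff.2 fun q hq => Subtype.ext
      (hcomm q (hS' (hQ'T (mem_map_of_mem C.subtype hq)))))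
    have hw'F : w' ∈ F := mem_omega_center.2 ⟨⟨⟨_, hw'Q, rfl⟩, mem_centralizer_iff.2 fun q hq =>
      hcomm q (hS' (hQ'T hq))⟩, (MulAut.conj m).injective (by
        rw [map_pow, map_one]; exact (mem_omega_center.1 hw).2)⟩
    rcases hF2 w' hw'F with rfl | rfl
    · exact Or.inl (map_one _)
    · exact Or.inr rfl
  have h3 : m * g * m⁻¹ ∈ M := c.sylow_normalizer_le (c.zc (mem_centralizer_iff.2 fun w hw => by
    rcases hZ w hw with rfl | rfl
    · rw [one_mul, mul_one]
    · have h2 := mem_centralizer_singleton_iff.1 hgC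
      calc m * x * m⁻¹ * (m * g * m⁻¹) = m * (x * g) * m⁻¹ := by group
        _ = m * g * m⁻¹ * (m * x * m⁻¹) := by rw [← h2]; group))
  simpa [mul_assoc] using mul_mem (mul_mem (inv_mem hm) h3) hm

end Setting

end Cfsg.Agent.H57.ZC
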