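import Cfsg.Agent.H57.ZC.Eight

/-!
The case in which a Sylow 2-subgroup has an elementary abelian subgroup of order 8: every
involution centraliser and the normaliser of `S ∩ O²(G)` lie in `N(W)`.
-/

set_option autoImplicit false
set_option linter.unusedSectionVars false
set_option linter.style.haveILetI false

namespace Cfsg.Agent.H57.ZC

open Subgroup
open Cfsg (centralizerPPrimeCore)
open Cfsg.Agent.H70.Balanced (Four)

universe u

variable {G : Type u} [Group G] [Finite G] {S : Sylow 2 G} {E : Subgroup G} {z : G}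

local instance : Fact (Nat.Prime 2) := ⟨Nat.prime_two⟩

/-- `x` lies in an elementary subgroup of order 8 of `S`. -/
def InEight (S : Sylow 2 G) (x : G) : Prop := ∃ D, Eight (S : Subgroup G) D ∧ x ∈ D

namespace Setting

theorem inEight_of_zOne (c : Setting S E z) {t : G} (ht : t ∈ zOne S) : InEight S t := by
  obtain ⟨A, hA⟩ := c.eight
  exact ⟨_, eight_adjoin hA (zOne_le S ht) (mem_omega_center.1 ht).2
    fun a ha => zOne_comm ht (hA.1 ha), mem_sup_right (mem_zpowers t)⟩

theorem inEight_of_centralizer (c : Setting S E z) {t : G} (htS : t ∈ (S : Subgroup G))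
    (ht : orderOf t = 2) (htE : t ∈ centralizer (E : Set G)) : InEight S t := by
  by_cases h : t ∈ E
  · obtain ⟨D, hD, hED⟩ := c.exists_eight_ge
    exact ⟨D, hD, hED h⟩
  · exact ⟨_, eight_sup c.le c.four.1 c.four.2.ge htS (sq_of_two ht)
      (fun a ha => mem_centralizer_iff.1 htE a ha) h, mem_sup_right (mem_zpowers t)⟩

theorem center_of_not_inEight (c : Setting S E z) {t : G} (htS : t ∈ (S : Subgroup G))
    (ht : orderOf t = 2) (hno : ¬ InEight S t) : ∀ w ∈ zOne S, w = 1 ∨ w = z := by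
  intro w hw
  by_contra hcon
  simp only [not_or] at hcon
  have h4 := four_le_card (H36.NilPPrime.elem_isPGroup (elem_omega_center (S : Subgroup G))) c.memZ hw
    (ne_one_of_two c.ord) hcon.1 hcon.2
  by_cases h : t ∈ zOne S
  · exact hno (c.inEight_of_zOne h)
  · exact hno ⟨_, eight_sup (zOne_le S) (elem_omega_center _) h4 htS (sq_of_two ht)
      (fun a ha => (zOne_comm ha htS).symm) h, mem_sup_right (mem_zpowers t)⟩

theorem mul_mem_centralizer (c : Setting S E z) {a b : G} (ha : a ∈ (S : Subgroup G))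
    (haE : a ∉ centralizer (E : Set G)) (hb : b ∈ (S : Subgroup G))
    (hbE : b ∉ centralizer (E : Set G)) : a * b ∈ centralizer (E : Set G) :=
  mul_mem_centralizer_four c.four c.mem (ne_one_of_two c.ord) (c.normal ha) (zOne_comm c.memZ ha)
    haE (c.normal hb) (zOne_comm c.memZ hb) hbE

/-- An involution of `S ∩ O²(G)` is conjugate there into an elementary subgroup of order 8. -/
theorem exists_conj_inEight (c : Setting S E z) {t : G} (htS : t ∈ (S : Subgroup G))
    (htH : t ∈ Cfsg.pResidual 2 G) (ht : orderOf t = 2) :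
    ∃ h, h * t * h⁻¹ ∈ (S : Subgroup G) ∧ InEight S (h * t * h⁻¹) := by
  by_cases h0 : t ∈ centralizer (E : Set G)
  · exact ⟨1, by simpa using htS, by simpa using c.inEight_of_centralizer htS ht h0⟩
  obtain ⟨h, -, hS, hh⟩ := c.transfer (centralizer (E : Set G))
    (fun a ha _ haE b hb _ hbE => c.mul_mem_centralizer ha haE hb hbE) htS htH ht h0
  exact ⟨h, hS, c.inEight_of_centralizer hS (by rw [orderOf_conj, ht]) hh⟩

/-- Every conjugate of `z` in `S` lies in an elementary subgroup of order 8. -/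
theorem inEight_conj_center (c : Setting S E z) (hZ : ∀ w ∈ zOne S, w = 1 ∨ w = z) {g : G}
    (hyS : g * z * g⁻¹ ∈ (S : Subgroup G)) : InEight S (g * z * g⁻¹) := by
  set y := g * z * g⁻¹ with hy
  have hyo : orderOf y = 2 := by rw [hy, orderOf_conj, c.ord]
  by_contra hno
  have hy0 : y ∉ centralizer (E : Set G) := fun h => hno (c.inEight_of_centralizer hyS hyo h)
  have hzS := zOne_le S c.memZ
  have hvS : g⁻¹ * z * g ∈ (S : Subgroup G) :=
    c.conj_mem_of_commute hZ hzS (zOne_comm c.memZ hyS).symm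
  have hv0 : g⁻¹ * z * g ∉ centralizer (E : Set G) := by
    intro h
    obtain ⟨D, hD, hvD⟩ := c.inEight_of_centralizer hvS
      (by rw [show g⁻¹ * z * g = g⁻¹ * z * g⁻¹⁻¹ by group, orderOf_conj, c.ord]) h
    have hD1 : Eight (S : Subgroup G) (D.map (MulAut.conj g).toMonoidHom) := by
      refine eight_conj hD fun d hd => c.mem_of_commute_center hZ ?_ ?_
      · refine isPGroup_zpowers_of_pow (n := 1) ?_
        rw [pow_one]
        exact conj_sq (hD.2.1.2 d hd)
      · calc g * d * g⁻¹ * z = g * (d * (g⁻¹ * z * g)) * g⁻¹ := by group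
          _ = g * (g⁻¹ * z * g * d) * g⁻¹ := by rw [H36.NilPPrime.elem_comm hD.2.1 hd hvD]
          _ = z * (g * d * g⁻¹) := by group
    refine hno ⟨_, eight_adjoin hD1 hyS (sq_of_two hyo) ?_, mem_sup_right (mem_zpowers y)⟩
    rintro _ ⟨d, hd, rfl⟩
    show g * d * g⁻¹ * (g * z * g⁻¹) = g * z * g⁻¹ * (g * d * g⁻¹)
    calc g * d * g⁻¹ * (g * z * g⁻¹) = g * (d * z) * g⁻¹ := by group
      _ = g * (z * d) * g⁻¹ := by rw [zOne_comm c.memZ (hD.1 hd)]
      _ = _ := by group
  have hsmall : ∀ x ∈ (S : Subgroup G), x ∈ centralizer (E : Set G) → x * y = y * x →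
      x = 1 ∨ x = z := by
    intro x hxS hx0 hxy
    refine eq_one_or_eq_of_squares (C := (S : Subgroup G) ⊓ centralizer ({y} : Set G))
      (S₁ := ((S : Subgroup G) ⊓ centralizer (E : Set G)).map (MulAut.conj g).toMonoidHom)
      (K := (S : Subgroup G) ⊓ centralizer ({y} : Set G) ⊓ centralizer (E : Set G))
      (S.isPGroup'.to_le (inf_le_left.trans inf_le_left)) inf_le_left ?_ ?_ ?_
      ⟨⟨hxS, mem_centralizer_singleton_iff.2 hxy⟩, hx0⟩
    · rintro v ⟨hvS', hvy⟩
      rw [H39.mem_map_conj]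
      have h1 := c.conj_mem_of_commute hZ hvS' (mem_centralizer_singleton_iff.1 hvy)
      have heq : g⁻¹ * (v * v) * g = (g⁻¹ * v * g) * (g⁻¹ * v * g) := by group
      rw [heq]
      refine ⟨mul_mem h1 h1, ?_⟩
      by_cases hv : g⁻¹ * v * g ∈ centralizer (E : Set G)
      · exact mul_mem hv hv
      · exact c.mul_mem_centralizer h1 hv h1 hv
    · intro h
      rw [H39.mem_map_conj] at h
      exact hv0 h.2
    · rintro v ⟨⟨hvS', hvy⟩, hv0'⟩ hvo
      by_contra hvz
      have hvy' := mem_centralizer_singleton_iff.1 hvy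
      have hF := four_sup c.ord hvo (zOne_comm c.memZ hvS').symm hvz
      have hFc : zpowers z ⊔ zpowers v ≤ centralizer (E : Set G) :=
        sup_le (zpowers_le.2 (mem_centralizer_iff.2 fun a ha => zOne_comm c.memZ (c.le ha)))
          (zpowers_le.2 hv0')
      have hFy : zpowers z ⊔ zpowers v ≤ centralizer ({y} : Set G) :=
        sup_le (zpowers_le.2 (mem_centralizer_singleton_iff.2 (zOne_comm c.memZ hyS).symm))
          (zpowers_le.2 hvy)
      exact hno ⟨_, eight_sup (sup_le (zpowers_le.2 hzS) (zpowers_le.2 hvS')) hF.1 hF.2.ge hyS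
        (sq_of_two hyo) (fun a ha => mem_centralizer_singleton_iff.1 (hFy ha)) (fun h => hy0 (hFc h)),
        mem_sup_right (mem_zpowers y)⟩
  have hle := centralizer_le_four S.isPGroup' c.le c.normal c.four c.mem hyS hyo
    (zOne_comm c.memZ hyS).symm hy0 hsmall
  obtain ⟨D, hD, hED⟩ := c.exists_eight_ge
  have hDE : D ≤ E := fun d hd => hle ⟨hD.1 hd, mem_centralizer_iff.2 fun a ha =>
    H36.NilPPrime.elem_comm hD.2.1 (hED ha) hd⟩
  have h1 := card_le_of_le hDE
  have h8 := hD.2.2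
  rw [c.four.2] at h1
  omega

/-- The centralisers of the involutions of `S ∩ O²(G)`. -/
theorem centralizer_involution_le (c : Setting S E z) {x : G} (hxS : x ∈ (S : Subgroup G))
    (hxH : x ∈ Cfsg.pResidual 2 G) (hx : orderOf x = 2) :
    centralizer ({x} : Set G) ≤ normalizer (closureW E : Set G) := by
  set M := normalizer (closureW E : Set G) with hM
  haveI : (Cfsg.pResidual 2 G).Normal := Cores.pResidual_normal
  by_cases hin : InEight S x
  · obtain ⟨D, hD, hxD⟩ := hin
    exact c.centralizer_le hD hxD hx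
  have hZ := c.center_of_not_inEight hxS hx hin
  set K := M ⊓ centralizer ({x} : Set G) with hK
  have hxK : x ∈ K := ⟨c.sylow_le hxS, mem_centralizer_singleton_iff.2 rfl⟩
  obtain ⟨T0, hT0⟩ := (((isPGroup_zpowers_of_mem S.isPGroup' hxS)).comap_subtype (K := K)).exists_le_sylow
  set T0' := (T0 : Subgroup ↥K).map K.subtype with hT0'
  have hxT0 : x ∈ T0' := ⟨⟨x, hxK⟩, hT0 (mem_zpowers x), rfl⟩
  obtain ⟨m, hm, hmS⟩ := H39.exists_conj_mem_le_sylow (T0.isPGroup'.map K.subtype)
    ((map_subtype_le _).trans inf_le_left) S c.sylow_le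
  set t := m * x * m⁻¹ with ht
  have htS : t ∈ (S : Subgroup G) := hmS x hxT0
  have htH : t ∈ Cfsg.pResidual 2 G := Normal.conj_mem inferInstance x hxH m
  have hto : orderOf t = 2 := by rw [ht, orderOf_conj, hx]
  suffices hCt : centralizer ({t} : Set G) ≤ M by
    intro y hy
    have h2 := mem_centralizer_singleton_iff.1 hy
    have h1 : m * y * m⁻¹ ∈ M := hCt (mem_centralizer_singleton_iff.2 (by
      rw [ht]
      calc m * y * m⁻¹ * (m * x * m⁻¹) = m * (y * x) * m⁻¹ := by group
        _ = m * x * m⁻¹ * (m * y * m⁻¹) := by rw [h2]; group))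
    simpa [mul_assoc] using mul_mem (mul_mem (inv_mem hm) h1) hm
  by_cases hin' : InEight S t
  · obtain ⟨D, hD, htD⟩ := hin'
    exact c.centralizer_le hD htD hto
  exfalso
  set C1 := (S : Subgroup G) ⊓ centralizer ({t} : Set G) with hC1
  have hC1p : IsPGroup 2 C1 := S.isPGroup'.to_le inf_le_left
  have hC1M : C1 ≤ M := inf_le_left.trans c.sylow_le
  have hno : ∀ D, ¬ Eight C1 D := fun D hD => hin'
    ⟨_, eight_adjoin (⟨hD.1.trans inf_le_left, hD.2⟩ : Eight (S : Subgroup G) D) htS (sq_of_two hto)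
      (fun a ha => mem_centralizer_singleton_iff.1 (hD.1 ha).2), mem_sup_right (mem_zpowers t)⟩
  obtain ⟨T, hT⟩ := (hC1p.comap_subtype (K := centralizer ({t} : Set G))).exists_le_sylow
  set T' := (T : Subgroup _).map (centralizer ({t} : Set G)).subtype with hT'
  have hC1T : C1 ≤ T' := fun a ha => ⟨⟨a, ha.2⟩, hT ha, rfl⟩
  -- `T'` has an elementary subgroup of order 8
  obtain ⟨h, -, D, hD, htD⟩ := c.exists_conj_inEight htS htH hto
  have hD1C : D.map (MulAut.conj h⁻¹).toMonoidHom ≤ centralizer ({t} : Set G) := by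
    refine map_conj_le fun d hd => mem_centralizer_singleton_iff.2 ?_
    have h2 := H36.NilPPrime.elem_comm hD.2.1 hd htD
    calc h⁻¹ * d * h⁻¹⁻¹ * t = h⁻¹ * (d * (h * t * h⁻¹)) * h := by group
      _ = t * (h⁻¹ * d * h⁻¹⁻¹) := by rw [h2]; group
  obtain ⟨u, hu⟩ := H39.exists_conj_le_sylow
    ((H36.NilPPrime.elem_isPGroup (H36.NilPPrime.elem_map hD.2.1 h⁻¹)).comap_subtype
      (K := centralizer ({t} : Set G))) T
  have hD2 : Eight T' ((D.map (MulAut.conj h⁻¹).toMonoidHom).map (MulAut.conj (u : G)).toMonoidHom) :=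
    eight_conj (P := centralizer ({t} : Set G))
      ⟨hD1C, H36.NilPPrime.elem_map hD.2.1 _, by rw [H39.card_map_conj]; exact hD.2.2⟩
      fun a ha => ⟨_, hu ⟨a, hD1C ha⟩ ha, rfl⟩
  have hT'p : IsPGroup 2 T' := T.isPGroup'.map _
  obtain ⟨g, hgT, hgC1, hgn⟩ := H39.exists_mem_normalizer_not_mem hT'p
    (lt_of_le_of_ne hC1T fun e => hno _ (e.symm ▸ hD2))
  have hgt : g ∈ centralizer ({t} : Set G) := map_subtype_le _ hgT
  -- `C₁` is a Sylow 2-subgroup of `M ∩ C(t)`
  have hTM : T' ⊓ M ≤ C1 := by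
    have hp : IsPGroup 2 ↥((T' ⊓ M).map (MulAut.conj m⁻¹).toMonoidHom) :=
      (hT'p.to_le inf_le_left).map _
    have hle : (T' ⊓ M).map (MulAut.conj m⁻¹).toMonoidHom ≤ K := map_conj_le fun a ha => by
      refine mem_inf.2 ⟨mul_mem (mul_mem (inv_mem hm) ha.2) (inv_mem (inv_mem hm)), mem_centralizer_singleton_iff.2 ?_⟩
      have h2 : a * t = t * a := mem_centralizer_singleton_iff.1 (map_subtype_le _ ha.1)
      rw [ht] at h2
      calc m⁻¹ * a * m⁻¹⁻¹ * x = m⁻¹ * (a * (m * x * m⁻¹)) * m := by group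
        _ = x * (m⁻¹ * a * m⁻¹⁻¹) := by rw [h2]; group
    obtain ⟨P, hP⟩ := (hp.comap_subtype (K := K)).exists_le_sylow
    have h1 : Nat.card ↥(T' ⊓ M) ≤ Nat.card ↥T0' := by
      calc Nat.card ↥(T' ⊓ M) = Nat.card ↥(((T' ⊓ M).map (MulAut.conj m⁻¹).toMonoidHom).subgroupOf K) := by
            rw [Nat.card_congr (subgroupOfEquivOfLe hle).toEquiv, H39.card_map_conj]
        _ ≤ Nat.card (P : Subgroup ↥K) := card_le_of_le hP
        _ = Nat.card (T0 : Subgroup ↥K) := by rw [P.card_eq_multiplicity, T0.card_eq_multiplicity]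
        _ = _ := by rw [hT0', card_map_of_injective K.subtype_injective]
    have h2 : T0'.map (MulAut.conj m).toMonoidHom ≤ C1 := map_conj_le fun a ha => by
      refine ⟨hmS a ha, mem_centralizer_singleton_iff.2 ?_⟩
      have h3 : a * x = x * a := mem_centralizer_singleton_iff.1 (map_subtype_le _ ha).2
      calc m * a * m⁻¹ * t = m * (a * x) * m⁻¹ := by rw [ht]; group
        _ = t * (m * a * m⁻¹) := by rw [h3, ht]; group
    have h4 := card_le_of_le h2
    rw [H39.card_map_conj] at h4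
    exact (eq_of_le_of_card_ge (le_inf hC1T hC1M) (h1.trans h4)).ge
  have hgM : g ∉ M := fun h => hgC1 (hTM ⟨hgT, h⟩)
  have hzC1 : z ∈ C1 :=
    ⟨zOne_le S c.memZ, mem_centralizer_singleton_iff.2 (zOne_comm c.memZ htS).symm⟩
  have hz'C1 : g * z * g⁻¹ ∈ C1 := (mem_normalizer_iff.1 hgn z).1 hzC1
  have hzz' : g * z * g⁻¹ ≠ z := by
    intro heq
    rw [mul_inv_eq_iff_eq_mul] at heq
    exact hgM (c.sylow_normalizer_le (c.zc (mem_centralizer_iff.2 fun w hw => by
      rcases hZ w hw with rfl | rfl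
      · rw [one_mul, mul_one]
      · exact heq.symm)))
  obtain ⟨D', hD', hz'D'⟩ := c.inEight_conj_center hZ hz'C1.1
  have hF := four_sup c.ord (by rw [orderOf_conj, c.ord] : orderOf (g * z * g⁻¹) = 2)
    (zOne_comm c.memZ hz'C1.1).symm hzz'
  have hFS : zpowers z ⊔ zpowers (g * z * g⁻¹) ≤ C1 :=
    sup_le (zpowers_le.2 hzC1) (zpowers_le.2 hz'C1)
  by_cases htF : t ∈ zpowers z ⊔ zpowers (g * z * g⁻¹)
  · exact hin' ⟨_, eight_adjoin hD' (zOne_le S c.memZ) (sq_of_two c.ord)
      (fun a ha => zOne_comm c.memZ (hD'.1 ha)),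
      sup_le (zpowers_le.2 (mem_sup_right (mem_zpowers z))) (zpowers_le.2 (mem_sup_left hz'D')) htF⟩
  · exact hin' ⟨_, eight_sup (hFS.trans inf_le_left) hF.1 hF.2.ge htS (sq_of_two hto)
      (fun a ha => mem_centralizer_singleton_iff.1 (hFS ha).2) htF, mem_sup_right (mem_zpowers t)⟩

/-- The elements of `O²(G)` normalising `S ∩ O²(G)`. -/
theorem normalizer_residual_le (c : Setting S E z) {g : G}
    (hg : g ∈ normalizer (((S : Subgroup G) ⊓ Cfsg.pResidual 2 G : Subgroup G) : Set G)) :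
    g ∈ normalizer (closureW E : Set G) := by
  set H := Cfsg.pResidual 2 G with hH
  haveI : H.Normal := Cores.pResidual_normal
  set R := (S : Subgroup G) ⊓ H with hR
  set F := Cfsg.omegaOne 2 (R ⊓ centralizer (R : Set G)) with hF
  have hFe : Cfsg.IsElementaryAbelian 2 F := elem_omega_center R
  have hFS : F ≤ (S : Subgroup G) := (omega_center_le R).trans inf_le_left
  have hSR : (S : Subgroup G) ≤ normalizer (R : Set G) := fun s hs =>
    H39.mem_normalizer_of_conj_mem fun r hr =>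
      mem_inf.2 ⟨mul_mem (mul_mem hs hr.1) (inv_mem hs), Normal.conj_mem inferInstance r hr.2 s⟩
  have hgF : g ∈ normalizer (F : Set G) :=
    H39.mem_normalizer_of_conj_mem fun y hy => conj_mem_omega_center hg hy
  by_cases h8 : 8 ≤ Nat.card F
  · exact c.normalizer_le (H36.NilPPrime.elem_isPGroup hFe) (hFS.trans c.sylow_le) ⟨le_rfl, hFe, h8⟩ hgF
  by_cases h4 : 4 ≤ Nat.card F
  · have hF4 : Four F := ⟨hFe, card_eq_four (H36.NilPPrime.elem_isPGroup hFe) h4 h8⟩
    obtain ⟨A, hA⟩ := c.eight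
    obtain ⟨D', -, hD', hFD', -⟩ := eight_of_four S.isPGroup' hF4 hFS
      (fun s hs => H39.mem_normalizer_of_conj_mem fun y hy => conj_mem_omega_center (hSR hs) hy) hA
    exact c.mem_of_map hF4 hD' hFD' hD'
      (by rw [H39.mem_normalizer_iff_map_conj.1 hgF]; exact hFD')
  obtain ⟨w, hw, hwH, hwo⟩ := c.exists_central_mem
  have hwF : w ∈ F := mem_omega_center.2 ⟨⟨⟨zOne_le S hw, hwH⟩, mem_centralizer_iff.2 fun r hr =>
    zOne_comm hw hr.1⟩, sq_of_two hwo⟩
  have hgw : g * w * g⁻¹ = w := by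
    by_contra hne
    exact h4 (four_le_card (H36.NilPPrime.elem_isPGroup hFe) hwF
      ((mem_normalizer_iff.1 hgF w).1 hwF) (ne_one_of_two hwo)
      (fun h => ne_one_of_two hwo (conj_eq_one_iff.1 h)) hne)
  rw [mul_inv_eq_iff_eq_mul] at hgw
  obtain ⟨D, hD, hwD⟩ := c.inEight_of_zOne hw
  exact c.centralizer_le hD hwD hwo (mem_centralizer_singleton_iff.2 hgw)

/-- The case with an elementary subgroup of order 8. -/
theorem high (c : Setting S E z) :
    (∃ M : Subgroup ↥(Cfsg.pResidual 2 G), Cfsg.IsStronglyEmbedded M) ∨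
      Cfsg.IsCharacteristicTwoType ↥(Cfsg.pResidual 2 G ⊔ zOne S) := by
  haveI : (Cfsg.pResidual 2 G).Normal := Cores.pResidual_normal
  by_cases hW : closureW E = ⊥
  · refine Or.inr (c.charTwo fun t htS htX ht => ?_)
    have key : ∀ v : G, InEight S v → orderOf v = 2 → centralizerPPrimeCore 2 v = ⊥ := by
      rintro v ⟨D, hD, hvD⟩ hv
      exact le_bot_iff.1 ((c.theta_le hD hvD hv).trans hW.le)
    by_cases hin : InEight S t
    · exact key t hin ht
    have hZ := c.center_of_not_inEight htS ht hin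
    obtain ⟨w, hw, hwH, hwo⟩ := c.exists_central_mem
    have hwz := (hZ w hw).resolve_left (ne_one_of_two hwo)
    have hZH : zOne S ≤ Cfsg.pResidual 2 G := fun v hv => by
      rcases hZ v hv with rfl | rfl
      exacts [one_mem _, hwz ▸ hwH]
    have htH : t ∈ Cfsg.pResidual 2 G := (sup_le le_rfl hZH : _ ≤ Cfsg.pResidual 2 G) htX
    obtain ⟨h, -, hh⟩ := c.exists_conj_inEight htS htH ht
    have h1 := key _ hh (by rw [orderOf_conj, ht])
    rw [Fusion.Signalizer.centralizerPPrimeCore_conj] at h1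
    exact (map_eq_bot_iff_of_injective _ (MulAut.conj h).injective).1 h1
  exact Or.inl (c.stronglyEmbedded (c.normalizer_ne_top c.odd hW) c.sylow_le
    (fun x hxS hxH hx => c.centralizer_involution_le hxS hxH hx)
    fun g _ hg => c.normalizer_residual_le hg)

end Setting

end Cfsg.Agent.H57.ZC
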