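import Cfsg.Agent.H57.ZC.Basic
import Cfsg.Agent.H14.Asch.TwoGroup

/-!
The case in which a Sylow 2-subgroup has no elementary abelian subgroup of order 8.
-/

set_option autoImplicit false
set_option linter.unusedSectionVars false
set_option linter.style.haveILetI false

namespace Cfsg.Agent.H57.ZC.Hyp

open Subgroup
open Cfsg (centralizerPPrimeCore)

universe u

variable {G : Type u} [Group G] [Finite G] {S : Sylow 2 G}

local instance : Fact (Nat.Prime 2) := ⟨Nat.prime_two⟩

/-- No elementary group of order 8 and `|Ω₁(Z(S))| ≥ 4`. -/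
theorem low_rank_center (c : Hyp S) (hno : ∀ D, ¬ Eight (S : Subgroup G) D) {z w : G}
    (hz : z ∈ zOne S) (hzH : z ∈ Cfsg.pResidual 2 G) (hzo : orderOf z = 2) (hw : w ∈ zOne S)
    (hw1 : w ≠ 1) (hwz : w ≠ z) :
    Nat.card (zOne S) = 4 ∧
      Cfsg.omegaOne 2 ((S : Subgroup G) ⊓ Cfsg.pResidual 2 G) = zOne S := by
  have hZ := elem_omega_center (S : Subgroup G)
  have h4 : 4 ≤ Nat.card (zOne S) :=
    four_le_card (H36.NilPPrime.elem_isPGroup hZ) hz hw (ne_one_of_two hzo) hw1 hwz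
  have hlt : Nat.card (zOne S) < 8 := by
    by_contra h
    exact hno _ ⟨zOne_le S, hZ, by omega⟩
  have hcard : Nat.card (zOne S) = 4 := by
    obtain ⟨n, hn⟩ := IsPGroup.iff_card.1 (H36.NilPPrime.elem_isPGroup hZ)
    change Nat.card (zOne S) = 2 ^ n at hn
    rcases n with _ | _ | _ | n
    · rw [pow_zero] at hn; omega
    · rw [pow_one] at hn; omega
    · exact hn
    · exfalso
      have : 8 ≤ 2 ^ (n + 1 + 1 + 1) := by
        calc 8 = 2 ^ 3 := by norm_num
          _ ≤ _ := Nat.pow_le_pow_right two_pos (by omega)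
      rw [← hn] at this
      omega
  have hall : ∀ t ∈ (S : Subgroup G), t ^ 2 = 1 → t ∈ zOne S := fun t htS ht => by
    by_contra h
    exact hno _ (eight_sup (zOne_le S) hZ h4 htS ht (fun a ha => (zOne_comm ha htS).symm) h)
  obtain ⟨h, hh, hS, hne⟩ := c.exists_conj_ne (zOne_le S hz) hzH hzo
  haveI : (Cfsg.pResidual 2 G).Normal := Cores.pResidual_normal
  have hx := hall _ hS (conj_sq (sq_of_two hzo))
  have hxH : h * z * h⁻¹ ∈ Cfsg.pResidual 2 G := Normal.conj_mem inferInstance z hzH h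
  have hle : zOne S ≤ Cfsg.pResidual 2 G := fun y hy => by
    rcases four_cases ⟨hZ, hcard⟩ hz hx (ne_one_of_two hzo)
      (fun h1 => ne_one_of_two hzo (conj_eq_one_iff.1 h1)) hne hy with rfl | rfl | rfl | rfl
    exacts [one_mem _, hzH, hxH, mul_mem hxH hzH]
  refine ⟨hcard, le_antisymm ((closure_le (K := zOne S)).2 fun y hy => hall y hy.1.1 hy.2) ?_⟩
  exact fun y hy => subset_closure ⟨⟨zOne_le S hy, hle hy⟩, (mem_omega_center.1 hy).2⟩

/-- No elementary group of order 8 and `Ω₁(Z(S)) = ⟨z⟩`: one class of involutions in `S ∩ O²(G)`. -/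
theorem low_isConj (c : Hyp S) (hno : ∀ D, ¬ Eight (S : Subgroup G) D) {z : G}
    (hz : z ∈ zOne S) (hzH : z ∈ Cfsg.pResidual 2 G) (hzo : orderOf z = 2)
    (hZ : ∀ w ∈ zOne S, w = 1 ∨ w = z) {t : G} (htS : t ∈ (S : Subgroup G))
    (htH : t ∈ Cfsg.pResidual 2 G) (ht : orderOf t = 2) : IsConj z t := by
  set H := Cfsg.pResidual 2 G with hH
  haveI : H.Normal := Cores.pResidual_normal
  have hzS := zOne_le S hz
  rcases H14.Asch.exists_normal_four_or_cyclic S.isPGroup' (z := (⟨z, hzS⟩ : ↥(S : Subgroup G)))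
    (by rw [← orderOf_coe]; exact hzo) (fun s => Subtype.ext (zOne_comm hz s.2).symm) with
    ⟨e', heo, hez', hconj'⟩ | ⟨a, hza, ha⟩
  swap
  · -- cyclic subgroup of index 2
    set A := (zpowers a).map (S : Subgroup G).subtype with hA
    have hzA : z ∈ A := ⟨_, hza, rfl⟩
    have huniq : ∀ x ∈ A, orderOf x = 2 → x = z := by
      rintro _ ⟨x, hx, rfl⟩ hxo
      rcases H14.Asch.eq_one_or_eq_of_sq (z := (⟨z, hzS⟩ : ↥(S : Subgroup G)))
        (by rw [← orderOf_coe]; exact hzo) hza hx (Subtype.ext (mul_self_eq_one hxo)) with rfl | rfl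
      · exact absurd rfl (ne_one_of_two hxo)
      · rfl
    by_cases htA : t ∈ A
    · rw [huniq t htA ht]
    obtain ⟨h, -, -, hhA⟩ := c.transfer A (fun x hx _ hxA y hy _ hyA => ⟨_, (ha ⟨x, hx⟩
      (fun h => hxA ⟨_, h, rfl⟩)).2 ⟨y, hy⟩ (fun h => hyA ⟨_, h, rfl⟩), rfl⟩) htS htH ht htA
    exact (isConj_iff.2 ⟨h, huniq _ hhA (by rw [orderOf_conj, ht])⟩).symm
  -- a normal four-group
  set e : G := (e' : G) with he
  have heS : e ∈ (S : Subgroup G) := e'.2
  have heo2 : orderOf e = 2 := by rw [he, orderOf_coe]; exact heo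
  have hez : e ≠ z := fun h => hez' (Subtype.ext h)
  have hz1 := ne_one_of_two hzo
  have he1 := ne_one_of_two heo2
  set E := zpowers z ⊔ zpowers e with hE
  have hE4 : H70.Balanced.Four E := four_sup hzo heo2 (zOne_comm hz heS).symm hez
  have hzE : z ∈ E := mem_sup_left (mem_zpowers z)
  have heE : e ∈ E := mem_sup_right (mem_zpowers e)
  have hES : E ≤ (S : Subgroup G) := sup_le (zpowers_le.2 hzS) (zpowers_le.2 heS)
  have hconj : ∀ s ∈ (S : Subgroup G), s * e * s⁻¹ = e ∨ s * e * s⁻¹ = e * z := fun s hs => by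
    rcases hconj' ⟨s, hs⟩ with h | h
    · exact Or.inl (congrArg Subtype.val h)
    · exact Or.inr (congrArg Subtype.val h)
  have hSE : (S : Subgroup G) ≤ normalizer (E : Set G) := fun s hs => by
    refine H39.mem_normalizer_of_conj_mem fun x hx => ?_
    rcases four_cases hE4 hzE heE hz1 he1 hez hx with rfl | rfl | rfl | rfl
    · simp
    · rwa [zOne_comm hz hs, mul_inv_cancel_right]
    · rcases hconj s hs with h | h <;> rw [h]
      exacts [heE, mul_mem heE hzE]
    · rw [← conj_mul, zOne_comm hz hs, mul_inv_cancel_right]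
      rcases hconj s hs with h | h <;> rw [h]
      exacts [mul_mem heE hzE, mul_mem (mul_mem heE hzE) hzE]
  set S₀ := centralizer (E : Set G) with hS₀
  have hidx : ∀ a ∈ (S : Subgroup G), a ∉ S₀ → ∀ b ∈ (S : Subgroup G), b ∉ S₀ → a * b ∈ S₀ :=
    fun a ha haF b hb hbF => mul_mem_centralizer_four hE4 hzE hz1 (hSE ha) (zOne_comm hz ha) haF
      (hSE hb) (zOne_comm hz hb) hbF
  have hinv : ∀ v ∈ (S : Subgroup G), v ∈ S₀ → orderOf v = 2 → v = z ∨ v = e ∨ v = e * z := by
    intro v hvS hv0 hv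
    have hvE : v ∈ E := by
      by_contra h
      exact hno _ (eight_sup hES hE4.1 hE4.2.ge hvS (sq_of_two hv)
        (fun a ha => mem_centralizer_iff.1 hv0 a ha) h)
    exact (four_cases hE4 hzE heE hz1 he1 hez hvE).resolve_left (ne_one_of_two hv)
  obtain ⟨s₀, hs₀S, hs₀⟩ : ∃ s ∈ (S : Subgroup G), s ∉ S₀ := by
    by_contra hcon
    push Not at hcon
    rcases hZ e (mem_zOne heS (sq_of_two heo2) fun s hs =>
      (mem_centralizer_iff.1 (hcon s hs) e heE).symm) with h | h
    exacts [he1 h, hez h]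
  have heez : IsConj e (e * z) :=
    isConj_iff.2 ⟨s₀, conj_four hE4 hzE heE hz1 he1 hez (hSE hs₀S) (zOne_comm hz hs₀S) hs₀⟩
  -- it is enough to treat `e`
  suffices key : e ∈ H → IsConj z e by
    have h0 : ∀ v ∈ (S : Subgroup G), v ∈ H → v ∈ S₀ → orderOf v = 2 → IsConj z v := by
      intro v hvS hvH hv0 hv
      rcases hinv v hvS hv0 hv with rfl | rfl | rfl
      · exact IsConj.refl _
      · exact key hvH
      · exact (key ((H.mul_mem_cancel_right hzH).1 hvH)).trans heez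
    by_cases ht0 : t ∈ S₀
    · exact h0 t htS htH ht0 ht
    obtain ⟨h, -, hhS, hh0⟩ :=
      c.transfer S₀ (fun a ha _ haF b hb _ hbF => hidx a ha haF b hb hbF) htS htH ht ht0
    exact (h0 _ hhS (Normal.conj_mem inferInstance t htH h) hh0 (by rw [orderOf_conj, ht])).trans
      (isConj_iff.2 ⟨h, rfl⟩).symm
  intro heH
  obtain ⟨g, -, hyS, hyz⟩ := c.exists_conj_ne hzS hzH hzo
  set y := g * z * g⁻¹ with hy
  have hyo : orderOf y = 2 := by rw [hy, orderOf_conj, hzo]
  have hzy : IsConj z y := isConj_iff.2 ⟨g, rfl⟩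
  by_cases hy0 : y ∈ S₀
  · rcases hinv y hyS hy0 hyo with h | h | h
    · exact absurd h hyz
    · exact h ▸ hzy
    · exact (h ▸ hzy).trans heez.symm
  by_cases hv0 : g⁻¹ * z * g ∈ (S : Subgroup G) ∧ g⁻¹ * z * g ∈ S₀
  · have hconj2 : IsConj z (g⁻¹ * z * g) := isConj_iff.2 ⟨g⁻¹, by group⟩
    rcases hinv _ hv0.1 hv0.2 (by
      rw [← hzo]; simpa using orderOf_conj (g := g⁻¹) (x := z)) with h | h | h
    · exfalso
      refine hyz ?_
      calc y = g * (g⁻¹ * z * g) * g⁻¹ := by rw [hy, h]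
        _ = z := by group
    · exact h ▸ hconj2
    · exact (h ▸ hconj2).trans heez.symm
  -- `C_S(y)` meets `S₀` in `⟨z⟩`
  have hCg : ∀ x ∈ (S : Subgroup G), x * y = y * x → g⁻¹ * x * g ∈ (S : Subgroup G) := by
    intro x hxS hxy
    refine c.mem_of_centralizer ?_ fun w hw => ?_
    · obtain ⟨n, hn⟩ := IsPGroup.iff_orderOf.1 S.isPGroup' ⟨x, hxS⟩
      rw [Subgroup.orderOf_mk] at hn
      refine isPGroup_zpowers_of_pow (n := n) ?_
      rw [show g⁻¹ * x * g = g⁻¹ * x * g⁻¹⁻¹ by group, conj_pow, ← hn, pow_orderOf_eq_one]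
      group
    · rcases hZ w hw with rfl | rfl
      · rw [one_mul, mul_one]
      · rw [hy] at hxy
        calc w * (g⁻¹ * x * g) = g⁻¹ * (g * w * g⁻¹ * x) * g := by group
          _ = _ := by rw [← hxy]; group
  have hzC : g⁻¹ * z * g ∈ (S : Subgroup G) := hCg z hzS (zOne_comm hz hyS).symm
  have hzS1 : z ∉ ((S : Subgroup G) ⊓ S₀).map (MulAut.conj g).toMonoidHom := fun h => by
    rw [H39.mem_map_conj] at h
    exact hv0 ⟨h.1, h.2⟩
  have hsmall : ∀ x ∈ (S : Subgroup G), x ∈ S₀ → x * y = y * x → x = 1 ∨ x = z := by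
    intro x hxS hx0 hxy
    refine eq_one_or_eq_of_squares (C := (S : Subgroup G) ⊓ centralizer ({y} : Set G))
      (S₁ := ((S : Subgroup G) ⊓ S₀).map (MulAut.conj g).toMonoidHom)
      (K := (S : Subgroup G) ⊓ centralizer ({y} : Set G) ⊓ S₀)
      (S.isPGroup'.to_le (inf_le_left.trans inf_le_left)) inf_le_left ?_ hzS1 ?_
      ⟨⟨hxS, mem_centralizer_singleton_iff.2 hxy⟩, hx0⟩
    · rintro v ⟨hvS, hvy⟩
      rw [H39.mem_map_conj]
      have h1 := hCg v hvS (mem_centralizer_singleton_iff.1 hvy)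
      have heq : g⁻¹ * (v * v) * g = (g⁻¹ * v * g) * (g⁻¹ * v * g) := by group
      rw [heq]
      refine ⟨mul_mem h1 h1, ?_⟩
      by_cases hv : g⁻¹ * v * g ∈ S₀
      · exact mul_mem hv hv
      · exact hidx _ h1 hv _ h1 hv
    · rintro v ⟨⟨hvS, hvy⟩, hv0'⟩ hvo
      have hmove : y * e * y⁻¹ = e * z :=
        conj_four hE4 hzE heE hz1 he1 hez (hSE hyS) (zOne_comm hz hyS) hy0
      have hvy' := mem_centralizer_singleton_iff.1 hvy
      rcases hinv v hvS hv0' hvo with h | h | h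
      · exact h
      · exfalso
        rw [h] at hvy'
        rw [← hvy', mul_inv_cancel_right] at hmove
        exact hz1 (mul_eq_left.1 hmove.symm)
      · exfalso
        rw [h] at hvy'
        have h2 : y * (e * z) * y⁻¹ = e * z := by rw [← hvy', mul_inv_cancel_right]
        rw [← conj_mul, hmove, zOne_comm hz hyS, mul_inv_cancel_right] at h2
        exact hz1 (mul_eq_left.1 h2)
  have hle : (S : Subgroup G) ⊓ S₀ ≤ E := centralizer_le_four S.isPGroup' hES hSE hE4 hzE hyS hyo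
    (zOne_comm hz hyS).symm hy0 hsmall
  have hyy : y * y = 1 := mul_self_eq_one hyo
  have hey : e * y * e⁻¹ = y * z := by
    have h := conj_four hE4 hzE heE hz1 he1 hez (hSE hyS) (zOne_comm hz hyS) hy0
    rw [mul_inv_eq_iff_eq_mul] at h
    have hee : e⁻¹ = e := inv_eq_of_mul_eq_one_right (mul_self_eq_one heo2)
    rw [hee, mul_assoc, h, mul_assoc, ← mul_assoc, mul_self_eq_one heo2, one_mul]
    exact (zOne_comm hz hyS).symm
  have hE_y : ∀ x ∈ E, x * y = y * x ∨ x * y * x⁻¹ = y * z := by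
    intro x hx
    rcases four_cases hE4 hzE heE hz1 he1 hez hx with rfl | rfl | rfl | rfl
    · exact Or.inl (by rw [one_mul, mul_one])
    · exact Or.inl (zOne_comm hz hyS).symm
    · exact Or.inr hey
    · refine Or.inr ?_
      calc e * z * y * (e * z)⁻¹ = e * (z * y * z⁻¹) * e⁻¹ := by group
        _ = y * z := by rw [(zOne_comm hz hyS).symm, mul_inv_cancel_right, hey]
  have hS_y : ∀ s ∈ (S : Subgroup G), s * y = y * s ∨ s * y * s⁻¹ = y * z := by
    intro s hs
    by_cases hs0 : s ∈ S₀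
    · exact hE_y s (hle ⟨hs, hs0⟩)
    have hys : y * s ∈ E := hle ⟨mul_mem hyS hs, hidx y hyS hy0 s hs hs0⟩
    rcases hE_y _ hys with h | h
    · exact Or.inl (mul_left_cancel (a := y) (by rw [← mul_assoc, h]))
    · refine Or.inr ?_
      calc s * y * s⁻¹ = y⁻¹ * (y * s * y * (y * s)⁻¹) * y := by group
        _ = y⁻¹ * (y * z) * y := by rw [h]
        _ = z * y := by group
        _ = y * z := (zOne_comm hz hyS).symm
  set C := (S : Subgroup G) ⊓ centralizer ({y} : Set G) with hCdef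
  have heC : e ∉ C := fun h => by
    have h1 := mem_centralizer_singleton_iff.1 h.2
    rw [h1, mul_inv_cancel_right] at hey
    exact hz1 (mul_eq_left.1 hey.symm)
  obtain ⟨h, -, -, hhC⟩ := c.transfer C (fun a ha _ haC b hb _ hbC => by
    have hb' : b * y * b⁻¹ = y * z := (hS_y b hb).resolve_left fun h => hbC
      ⟨hb, mem_centralizer_singleton_iff.2 h⟩
    have ha' : a * y * a⁻¹ = y * z := (hS_y a ha).resolve_left fun h => haC
      ⟨ha, mem_centralizer_singleton_iff.2 h⟩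
    refine ⟨mul_mem ha hb, mem_centralizer_singleton_iff.2 ?_⟩
    have h2 : a * b * y * (a * b)⁻¹ = y := by
      calc a * b * y * (a * b)⁻¹ = a * (b * y * b⁻¹) * a⁻¹ := by group
        _ = a * y * a⁻¹ * (a * z * a⁻¹) := by rw [hb']; group
        _ = y * z * z := by rw [ha', zOne_comm hz ha, mul_inv_cancel_right]
        _ = y := by rw [mul_assoc, mul_self_eq_one hzo, mul_one]
    rwa [mul_inv_eq_iff_eq_mul] at h2) heS heH heo2 heC
  set x := h * e * h⁻¹ with hx
  have hxo : orderOf x = 2 := by rw [hx, orderOf_conj, heo2]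
  have hex : IsConj e x := isConj_iff.2 ⟨h, rfl⟩
  have hxy := mem_centralizer_singleton_iff.1 hhC.2
  suffices IsConj z x from this.trans hex.symm
  by_cases hx0 : x ∈ S₀
  · rw [(hsmall x hhC.1 hx0 hxy).resolve_left (ne_one_of_two hxo)]
  have hyx : y * x * y = y * (y * x) := by rw [mul_assoc, hxy]
  rcases hsmall (y * x) (mul_mem hyS hhC.1) (hidx y hyS hy0 x hhC.1 hx0) hyx with h1 | h1
  · rw [show x = y by
      rw [← one_mul x, ← hyy, mul_assoc, h1, mul_one]]
    exact hzy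
  · rw [show x = y * z by rw [← one_mul x, ← hyy, mul_assoc, h1]]
    exact hzy.trans (isConj_iff.2 ⟨e, hey⟩)

/-- The case without elementary subgroups of order 8. -/
theorem low (c : Hyp S) (hno : ∀ D, ¬ Eight (S : Subgroup G) D) :
    (∃ M : Subgroup ↥(Cfsg.pResidual 2 G), Cfsg.IsStronglyEmbedded M) ∨
      (Nat.card (zOne S) = 4 ∧
        Cfsg.omegaOne 2 ((S : Subgroup G) ⊓ Cfsg.pResidual 2 G) = zOne S) ∨
      Cfsg.IsCharacteristicTwoType ↥(Cfsg.pResidual 2 G ⊔ zOne S) := by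
  obtain ⟨z, hz, hzH, hzo⟩ := c.exists_central_mem
  by_cases hZ : ∀ w ∈ zOne S, w = 1 ∨ w = z
  swap
  · push Not at hZ
    obtain ⟨w, hw, hw1, hwz⟩ := hZ
    exact Or.inr (Or.inl (c.low_rank_center hno hz hzH hzo hw hw1 hwz))
  set U := centralizerPPrimeCore 2 z with hU
  have hD : ∀ t ∈ (S : Subgroup G), t ∈ Cfsg.pResidual 2 G → orderOf t = 2 →
      centralizerPPrimeCore 2 t = U := by
    intro t htS htH ht
    obtain ⟨g, hg⟩ := isConj_iff.1 (c.low_isConj hno hz hzH hzo hZ htS htH ht)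
    refine (eq_of_le_of_card_ge (c.le_core (H47.not_dvd_centralizerPPrimeCore z)
      (fun u hu => c.core_central hz hZ hu) htS ht) (le_of_eq ?_)).symm
    rw [← hg, Fusion.Signalizer.centralizerPPrimeCore_conj, H39.card_map_conj]
  haveI : (Cfsg.pResidual 2 G).Normal := Cores.pResidual_normal
  by_cases hU1 : U = ⊥
  · refine Or.inr (Or.inr (c.charTwo fun t htS htX ht => ?_))
    have hZH : zOne S ≤ Cfsg.pResidual 2 G := fun w hw => by
      rcases hZ w hw with rfl | rfl
      exacts [one_mem _, hzH]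
    have htH : t ∈ Cfsg.pResidual 2 G := (sup_le le_rfl hZH : _ ≤ Cfsg.pResidual 2 G) htX
    rw [hD t htS htH ht, hU1]
  refine Or.inl (c.stronglyEmbedded
    (M := normalizer (U : Set G)) (c.normalizer_ne_top (H47.not_dvd_centralizerPPrimeCore z) hU1)
    (fun s hs => H61.EarlyCharTwo.theta_le_normalizer z
      (mem_centralizer_singleton_iff.2 (zOne_comm hz hs)))
    (fun x hxS hxH hx => ?_) fun g _ hg => ?_)
  · have h := H61.EarlyCharTwo.theta_le_normalizer x
    rwa [hD x hxS hxH hx] at h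
  · have h := (mem_normalizer_iff.1 hg z).1 ⟨zOne_le S hz, hzH⟩
    have h1 := hD _ h.1 h.2 (by rw [orderOf_conj, hzo])
    rw [Fusion.Signalizer.centralizerPPrimeCore_conj] at h1
    exact H39.mem_normalizer_iff_map_conj.2 h1

end Cfsg.Agent.H57.ZC.Hyp
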